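import Mathlib
import Cfsg.Prelude.Def_Local

/-!
# S3086 (the `P(G,V)`-theorem): definitions (helper2)

`cV ρ X = C_V(X)`, `cmW ρ W X = [W, X]`, `cm ρ X = [V, X]`, the best-offender condition `IsPOff`, conjugates `cjS g K = g K g⁻¹`,
the norm element `nt p t x = (x t)^p = x · x^t ⋯ x^{t^{p-1}} · t^p`, and the minimal-counterexample configuration `MinCE`.
See `notes/S3086_proof_helper2.md`.
-/

set_option autoImplicit false

namespace Cfsg.Agent.PGV

section defs

variable {k G V : Type*} [CommRing k] [Group G] [AddCommGroup V] [Module k V]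

/-- `C_V(X)`: the vectors fixed by every element of the set `X`. -/
def cV (ρ : Representation k G V) (X : Set G) : Submodule k V where
  carrier := {v | ∀ x ∈ X, ρ x v = v}
  zero_mem' := by
    intro x _
    exact map_zero _
  add_mem' := by
    intro a b ha hb x hx
    rw [map_add, ha x hx, hb x hx]
  smul_mem' := by
    intro c a ha x hx
    rw [map_smul, ha x hx]

theorem mem_cV {ρ : Representation k G V} {X : Set G} {v : V} : v ∈ cV ρ X ↔ ∀ x ∈ X, ρ x v = v := Iff.rfl

/-- `[W, X]`: the span of all `ρ x w - w`, `x ∈ X`, `w ∈ W`. -/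
def cmW (ρ : Representation k G V) (W : Submodule k V) (X : Set G) : Submodule k V :=
  Submodule.span k {u | ∃ x ∈ X, ∃ w ∈ W, u = ρ x w - w}

/-- `[V, X]`. -/
def cm (ρ : Representation k G V) (X : Set G) : Submodule k V := cmW ρ ⊤ X

theorem sub_mem_cmW {ρ : Representation k G V} {W : Submodule k V} {X : Set G} {x : G} (hx : x ∈ X) {w : V}
    (hw : w ∈ W) : ρ x w - w ∈ cmW ρ W X :=
  Submodule.subset_span ⟨x, hx, w, hw, rfl⟩

theorem sub_mem_cm {ρ : Representation k G V} {X : Set G} {x : G} (hx : x ∈ X) (v : V) : ρ x v - v ∈ cm ρ X :=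
  sub_mem_cmW hx Submodule.mem_top

theorem cmW_le_iff {ρ : Representation k G V} {W U : Submodule k V} {X : Set G} :
    cmW ρ W X ≤ U ↔ ∀ x ∈ X, ∀ w ∈ W, ρ x w - w ∈ U := by
  constructor
  · intro h x hx w hw
    exact h (sub_mem_cmW hx hw)
  · intro h
    refine Submodule.span_le.mpr ?_
    rintro u ⟨x, hx, w, hw, rfl⟩
    exact h x hx w hw

theorem cm_le_iff {ρ : Representation k G V} {U : Submodule k V} {X : Set G} :
    cm ρ X ≤ U ↔ ∀ x ∈ X, ∀ v : V, ρ x v - v ∈ U := by
  unfold cm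
  rw [cmW_le_iff]
  exact ⟨fun h x hx v => h x hx v Submodule.mem_top, fun h x hx v _ => h x hx v⟩

/-- the best-offender condition of S3086, verbatim. -/
def IsPOff (ρ : Representation k G V) (A : Subgroup G) : Prop :=
  ∀ B : Subgroup G, B ≤ A →
    Nat.card ↥B * Nat.card {v : V // ∀ b ∈ B, ρ b v = v} ≤ Nat.card ↥A * Nat.card {v : V // ∀ a ∈ A, ρ a v = v}

/-- the conjugate `g K g⁻¹`. -/
def cjS (g : G) (K : Subgroup G) : Subgroup G := K.map (MulAut.conj g).toMonoidHom

theorem mem_cjS {g x : G} {K : Subgroup G} : x ∈ cjS g K ↔ g⁻¹ * x * g ∈ K := by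
  unfold cjS
  constructor
  · rintro ⟨y, hy, rfl⟩
    have : g⁻¹ * ((MulAut.conj g).toMonoidHom y) * g = y := by
      simp [MulAut.conj_apply, mul_assoc]
    rw [this]
    exact hy
  · intro h
    refine ⟨g⁻¹ * x * g, h, ?_⟩
    simp [MulAut.conj_apply, mul_assoc]

theorem conj_mem_cjS {g x : G} {K : Subgroup G} (hx : x ∈ K) : g * x * g⁻¹ ∈ cjS g K := by
  rw [mem_cjS]
  have : g⁻¹ * (g * x * g⁻¹) * g = x := by group
  rw [this]
  exact hx

/-- the norm element `(x t)^p`; if `t^p = 1` it is `x · (t x t⁻¹) ⋯ (t^{p-1} x t^{-(p-1)})`. -/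
def nt (p : ℕ) (t x : G) : G := (x * t) ^ p

end defs

/-- **the configuration of a minimal counterexample** to S3086 (`notes/S3086_proof_helper2.md`, steps 1, 2, 4). -/
structure MinCE (p : ℕ) [Fact p.Prime] {G V : Type*} [Group G] [AddCommGroup V] [Module (ZMod p) V]
    (ρ : Representation (ZMod p) G V) (A K : Subgroup G) : Prop where
  /-- the action is faithful -/
  inj : Function.Injective ρ
  /-- `A` is elementary abelian -/
  el : Cfsg.IsElementaryAbelian p A
  /-- `A` is a best offender -/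
  off : IsPOff ρ A
  /-- `K` is a component -/
  comp : Cfsg.IsComponent K
  /-- `A` does not normalize `K` -/
  nn : ¬ A ≤ Subgroup.normalizer (K : Set G)
  /-- `G = ⟨K^A⟩ A` -/
  gen : (⨆ a : A, cjS (a : G) K) ⊔ A = ⊤
  /-- every proper `G`-submodule is centralized by `K` -/
  ind : ∀ W : Submodule (ZMod p) V, (∀ g : G, ∀ w ∈ W, ρ g w ∈ W) → W ≠ ⊤ → ∀ x ∈ K, ∀ w ∈ W, ρ x w = w
  /-- smaller best offenders inside `A` normalize all components -/
  sub : ∀ A' : Subgroup G, A' ≤ A → A' ≠ A → A' ≠ ⊥ → IsPOff ρ A' →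
    ∀ K' : Subgroup G, Cfsg.IsComponent K' → A' ≤ Subgroup.normalizer (K' : Set G)

end Cfsg.Agent.PGV
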