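import Mathlib
import Cfsg.Agent.PGV.Defs

/-!
# S3086 (the `P(G,V)`-theorem), piece B: general module lemmas (helper2)

`cV`, `cmW`, `cm`: monotonicity, closures, conjugation, the commuting swap `cm_le_cV_comm` (three subgroups lemma in
module form), `perfect_quadratic` (a perfect group acting quadratically acts trivially), `cmSub` (the subgroup of all
`g` with `[V, g] ≤ U`).
-/

set_option autoImplicit false

namespace Cfsg.Agent.PGV

open scoped commutatorElement

variable {k G V : Type*} [CommRing k] [Group G] [AddCommGroup V] [Module k V] (ρ : Representation k G V)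

theorem rho_inv_apply (g : G) (v : V) : ρ g⁻¹ (ρ g v) = v := by
  have h : ρ g⁻¹ * ρ g = 1 := by rw [← map_mul, inv_mul_cancel, map_one]
  exact LinearMap.congr_fun h v

theorem rho_apply_inv (g : G) (v : V) : ρ g (ρ g⁻¹ v) = v := by
  have := rho_inv_apply ρ g⁻¹ v
  rwa [inv_inv] at this

theorem rho_mul_apply (g h : G) (v : V) : ρ (g * h) v = ρ g (ρ h v) := by
  rw [map_mul]
  rfl

theorem rho_one_apply (v : V) : ρ 1 v = v := by
  rw [map_one]
  rfl

theorem cV_anti {X Y : Set G} (h : X ⊆ Y) : cV ρ Y ≤ cV ρ X :=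
  fun _ hv x hx => hv x (h hx)

theorem cmW_mono {W W' : Submodule k V} {X Y : Set G} (hW : W ≤ W') (h : X ⊆ Y) : cmW ρ W X ≤ cmW ρ W' Y := by
  rw [cmW_le_iff]
  intro x hx w hw
  exact sub_mem_cmW (h hx) (hW hw)

theorem cm_mono {X Y : Set G} (h : X ⊆ Y) : cm ρ X ≤ cm ρ Y := cmW_mono ρ le_rfl h

theorem cmW_le_cm (W : Submodule k V) (X : Set G) : cmW ρ W X ≤ cm ρ X := cmW_mono ρ le_top subset_rfl

/-- the stabilizer of a vector, as a subgroup. -/
def stabV (v : V) : Subgroup G where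
  carrier := {g | ρ g v = v}
  one_mem' := rho_one_apply ρ v
  mul_mem' := by
    intro a b ha hb
    show ρ (a * b) v = v
    rw [rho_mul_apply, hb, ha]
  inv_mem' := by
    intro a ha
    show ρ a⁻¹ v = v
    have := rho_inv_apply ρ a v
    rw [ha] at this
    exact this

theorem cV_closure (X : Set G) : cV ρ (Subgroup.closure X : Set G) = cV ρ X := by
  apply le_antisymm
  · exact cV_anti ρ Subgroup.subset_closure
  · intro v hv x hx
    have : Subgroup.closure X ≤ stabV ρ v := (Subgroup.closure_le _).mpr (fun y hy => hv y hy)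
    exact this hx

/-- the set of `g` with `[V, g] ≤ U` is a subgroup. -/
def cmSub (U : Submodule k V) : Subgroup G where
  carrier := {g | ∀ v : V, ρ g v - v ∈ U}
  one_mem' := by
    intro v
    rw [rho_one_apply, sub_self]
    exact U.zero_mem
  mul_mem' := by
    intro a b ha hb v
    have : ρ (a * b) v - v = (ρ a (ρ b v) - ρ b v) + (ρ b v - v) := by
      rw [rho_mul_apply]; abel
    rw [this]
    exact U.add_mem (ha _) (hb v)
  inv_mem' := by
    intro a ha v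
    have : ρ a⁻¹ v - v = -(ρ a (ρ a⁻¹ v) - ρ a⁻¹ v) := by
      rw [rho_apply_inv]; abel
    rw [this]
    exact U.neg_mem (ha _)

theorem mem_cmSub {U : Submodule k V} {g : G} : g ∈ cmSub ρ U ↔ ∀ v : V, ρ g v - v ∈ U := Iff.rfl

theorem cm_le_iff_le_cmSub {U : Submodule k V} {X : Set G} : cm ρ X ≤ U ↔ X ⊆ cmSub ρ U := by
  rw [cm_le_iff]
  exact ⟨fun h x hx v => h x hx v, fun h x hx v => h hx v⟩

theorem cm_closure (X : Set G) : cm ρ (Subgroup.closure X : Set G) = cm ρ X := by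
  apply le_antisymm
  · rw [cm_le_iff_le_cmSub]
    exact (Subgroup.closure_le _).mpr ((cm_le_iff_le_cmSub ρ).mp le_rfl)
  · exact cm_mono ρ Subgroup.subset_closure

/-- the set of `g` preserving `W` (together with `g⁻¹`) and with `[W, g] ≤ U`, for `U ≤ W`, is a subgroup. -/
def cmWSub (W U : Submodule k V) : Subgroup G where
  carrier := {g | (∀ w ∈ W, ρ g w ∈ W ∧ ρ g⁻¹ w ∈ W) ∧ ∀ w ∈ W, ρ g w - w ∈ U}
  one_mem' := by
    refine ⟨fun w hw => ?_, fun w _ => ?_⟩
    · rw [inv_one, rho_one_apply]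
      exact ⟨hw, hw⟩
    · rw [rho_one_apply, sub_self]
      exact U.zero_mem
  mul_mem' := by
    rintro a b ⟨ha1, ha2⟩ ⟨hb1, hb2⟩
    refine ⟨fun w hw => ⟨?_, ?_⟩, fun w hw => ?_⟩
    · rw [rho_mul_apply]
      exact (ha1 _ (hb1 w hw).1).1
    · rw [mul_inv_rev, rho_mul_apply]
      exact (hb1 _ (ha1 w hw).2).2
    · have : ρ (a * b) w - w = (ρ a (ρ b w) - ρ b w) + (ρ b w - w) := by
        rw [rho_mul_apply]; abel
      rw [this]
      exact U.add_mem (ha2 _ (hb1 w hw).1) (hb2 w hw)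
  inv_mem' := by
    rintro a ⟨ha1, ha2⟩
    refine ⟨fun w hw => ⟨(ha1 w hw).2, ?_⟩, fun w hw => ?_⟩
    · rw [inv_inv]
      exact (ha1 w hw).1
    · have : ρ a⁻¹ w - w = -(ρ a (ρ a⁻¹ w) - ρ a⁻¹ w) := by
        rw [rho_apply_inv]; abel
      rw [this]
      exact U.neg_mem (ha2 _ (ha1 w hw).2)

/-- `[W, ⟨X⟩] = [W, X]` for an `X`-invariant `W`. -/
theorem cmW_closure (W : Submodule k V) (X : Set G) (hW : ∀ x ∈ X, ∀ w ∈ W, ρ x w ∈ W ∧ ρ x⁻¹ w ∈ W) :
    cmW ρ W (Subgroup.closure X : Set G) = cmW ρ W X := by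
  apply le_antisymm
  · rw [cmW_le_iff]
    intro x hx w hw
    have : Subgroup.closure X ≤ cmWSub ρ W (cmW ρ W X) :=
      (Subgroup.closure_le _).mpr (fun y hy => ⟨hW y hy, fun w hw => sub_mem_cmW hy hw⟩)
    exact (this hx).2 w hw
  · exact cmW_mono ρ le_rfl Subgroup.subset_closure

theorem map_cV (g : G) (X : Set G) {v : V} (hv : v ∈ cV ρ X) :
    ρ g v ∈ cV ρ ((fun x => g * x * g⁻¹) '' X) := by
  rintro _ ⟨x, hx, rfl⟩
  rw [← rho_mul_apply]
  have : g * x * g⁻¹ * g = g * x := by group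
  rw [this, rho_mul_apply, hv x hx]

theorem map_cm (g : G) (X : Set G) {v : V} (hv : v ∈ cm ρ X) :
    ρ g v ∈ cm ρ ((fun x => g * x * g⁻¹) '' X) := by
  have h : cm ρ X ≤ (cm ρ ((fun x => g * x * g⁻¹) '' X)).comap (ρ g) := by
    rw [cm_le_iff]
    intro x hx u
    rw [Submodule.mem_comap, map_sub]
    have e : ρ g (ρ x u) = ρ (g * x * g⁻¹) (ρ g u) := by
      have hg : g * x * g⁻¹ * g = g * x := by group
      rw [← rho_mul_apply ρ (g * x * g⁻¹) g, hg, rho_mul_apply]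
    rw [e]
    exact sub_mem_cm (x := g * x * g⁻¹) (Set.mem_image_of_mem (fun x => g * x * g⁻¹) hx) _
  exact h hv

/-- if `g` normalizes the set `X` then `C_V(X)` is `g`-invariant. -/
theorem map_mem_cV_of_normalizes (g : G) (X : Set G) (hg : ∀ x ∈ X, g⁻¹ * x * g ∈ X) {v : V} (hv : v ∈ cV ρ X) :
    ρ g v ∈ cV ρ X := by
  intro x hx
  have := hv _ (hg x hx)
  rw [rho_mul_apply, rho_mul_apply] at this
  have h2 := congrArg (ρ g) this
  rw [rho_apply_inv] at h2
  exact h2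

/-- if `g` normalizes the set `X` then `[V, X]` is `g`-invariant. -/
theorem map_mem_cm_of_normalizes (g : G) (X : Set G) (hg : ∀ x ∈ X, g * x * g⁻¹ ∈ X) {v : V} (hv : v ∈ cm ρ X) :
    ρ g v ∈ cm ρ X := by
  have h := map_cm ρ g X hv
  refine cm_mono ρ ?_ h
  rintro _ ⟨x, hx, rfl⟩
  exact hg x hx

/-- commuting elements: `(x-1)(y-1) = (y-1)(x-1)`. -/
theorem sub_comm_of_commute {x y : G} (h : x * y = y * x) (v : V) :
    ρ x (ρ y v - v) - (ρ y v - v) = ρ y (ρ x v - v) - (ρ x v - v) := by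
  rw [map_sub, map_sub, ← rho_mul_apply, ← rho_mul_apply, h]
  abel

/-- **three subgroups lemma, module form**: if `X`, `Y` commute elementwise then `[V,X] ≤ C_V(Y) ↔ [V,Y] ≤ C_V(X)`. -/
theorem cm_le_cV_comm {X Y : Set G} (h : ∀ x ∈ X, ∀ y ∈ Y, x * y = y * x) :
    cm ρ X ≤ cV ρ Y ↔ cm ρ Y ≤ cV ρ X := by
  have key : ∀ {X Y : Set G}, (∀ x ∈ X, ∀ y ∈ Y, x * y = y * x) → cm ρ X ≤ cV ρ Y → cm ρ Y ≤ cV ρ X := by
    intro X Y h hXY
    rw [cm_le_iff]
    intro y hy v x hx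
    have h1 : ρ y (ρ x v - v) = ρ x v - v := hXY (sub_mem_cm hx v) y hy
    have h2 := sub_comm_of_commute ρ (h x hx y hy) v
    rw [h1, sub_self] at h2
    exact sub_eq_zero.mp h2
  exact ⟨key h, key (fun y hy x hx => (h x hx y hy).symm)⟩

/-- the same, relative to an invariant submodule: `[W,X] ≤ C_V(Y) → [W,Y] ≤ C_V(X)` if `W` is `X`-invariant... in the
elementwise form: if `x`, `y` commute and `y` fixes `(x-1)w` then `x` fixes `(y-1)w`. -/
theorem fix_sub_of_commute {x y : G} (h : x * y = y * x) {w : V} (hy : ρ y (ρ x w - w) = ρ x w - w) :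
    ρ x (ρ y w - w) = ρ y w - w := by
  have h2 := sub_comm_of_commute ρ h w
  rw [hy, sub_self] at h2
  exact sub_eq_zero.mp h2

/-- **a perfect group acting quadratically on `W / U` acts trivially on `W / U`** (`U = ⊥`: on `W`). -/
theorem perfect_quadratic (X : Subgroup G) (hX : ⁅X, X⁆ = X) (W U : Submodule k V)
    (hW : ∀ x ∈ X, ∀ w ∈ W, ρ x w ∈ W) (hU : ∀ x ∈ X, ∀ u ∈ U, ρ x u ∈ U)
    (hq : ∀ x ∈ X, ∀ y ∈ X, ∀ w ∈ W, ρ x (ρ y w - w) - (ρ y w - w) ∈ U) :
    ∀ x ∈ X, ∀ w ∈ W, ρ x w - w ∈ U := by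
  -- the subgroup of `X` acting trivially on `W / U`
  let T : Subgroup G :=
    { carrier := {g | g ∈ X ∧ ∀ w ∈ W, ρ g w - w ∈ U}
      one_mem' := by
        refine ⟨X.one_mem, fun w _ => ?_⟩
        rw [rho_one_apply, sub_self]
        exact U.zero_mem
      mul_mem' := by
        rintro a b ⟨ha, ha2⟩ ⟨hb, hb2⟩
        refine ⟨X.mul_mem ha hb, fun w hw => ?_⟩
        have : ρ (a * b) w - w = (ρ a (ρ b w) - ρ b w) + (ρ b w - w) := by
          rw [rho_mul_apply]; abel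
        rw [this]
        exact U.add_mem (ha2 _ (hW b hb w hw)) (hb2 w hw)
      inv_mem' := by
        rintro a ⟨ha, ha2⟩
        refine ⟨X.inv_mem ha, fun w hw => ?_⟩
        have : ρ a⁻¹ w - w = -(ρ a (ρ a⁻¹ w) - ρ a⁻¹ w) := by
          rw [rho_apply_inv]; abel
        rw [this]
        exact U.neg_mem (ha2 _ (hW _ (X.inv_mem ha) w hw)) }
  have hT : ⁅X, X⁆ ≤ T := by
    rw [Subgroup.commutator_le]
    intro x hx y hy
    refine ⟨?_, ?_⟩
    · rw [commutatorElement_def]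
      exact X.mul_mem (X.mul_mem (X.mul_mem hx hy) (X.inv_mem hx)) (X.inv_mem hy)
    · intro w hw
      -- `w' = x⁻¹ y⁻¹ w`, `[x,y] w - w = (xy - yx) w'`
      set w' := ρ x⁻¹ (ρ y⁻¹ w) with hw'
      have hw'W : w' ∈ W := hW _ (X.inv_mem hx) _ (hW _ (X.inv_mem hy) w hw)
      have e1 : ρ ⁅x, y⁆ w = ρ x (ρ y w') := by
        rw [commutatorElement_def, rho_mul_apply, rho_mul_apply, rho_mul_apply]
      have e2 : w = ρ y (ρ x w') := by
        rw [hw', rho_apply_inv, rho_apply_inv]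
      have e3 : ρ ⁅x, y⁆ w - w = ρ x (ρ y w') - ρ y (ρ x w') := by
        rw [e1]
        exact congrArg (fun z => ρ x (ρ y w') - z) e2
      have e4 : ρ x (ρ y w') - ρ y (ρ x w') =
          (ρ x (ρ y w' - w') - (ρ y w' - w')) - (ρ y (ρ x w' - w') - (ρ x w' - w')) := by
        rw [map_sub, map_sub]
        abel
      rw [e3, e4]
      exact U.sub_mem (hq x hx y hy w' hw'W) (hq y hy x hx w' hw'W)
  intro x hx w hw
  rw [hX] at hT
  exact (hT hx).2 w hw

/-- absolute form: a perfect group acting quadratically on an invariant `W` centralizes `W`. -/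
theorem perfect_quadratic' (X : Subgroup G) (hX : ⁅X, X⁆ = X) (W : Submodule k V)
    (hW : ∀ x ∈ X, ∀ w ∈ W, ρ x w ∈ W)
    (hq : ∀ x ∈ X, ∀ y ∈ X, ∀ w ∈ W, ρ x (ρ y w - w) = ρ y w - w) : ∀ x ∈ X, ∀ w ∈ W, ρ x w = w := by
  intro x hx w hw
  have := perfect_quadratic ρ X hX W ⊥ hW (fun x _ u hu => by
    rw [Submodule.mem_bot] at hu ⊢
    rw [hu, map_zero]) (fun x hx y hy w hw => by
    rw [Submodule.mem_bot, hq x hx y hy w hw, sub_self]) x hx w hw
  rw [Submodule.mem_bot] at this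
  exact sub_eq_zero.mp this

end Cfsg.Agent.PGV
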