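import Mathlib
import Cfsg.Agent.PGV.Defs

/-!
# S3086: the induction hypothesis `PGVBelow` (helper1; verbatim from `notes/S3086_stubs_helper2.lean.txt`)
-/

set_option autoImplicit false

namespace Cfsg.Agent.PGV

universe u v

/-- the theorem for all triples of size `< N`. -/
def PGVBelow (p : ℕ) [Fact p.Prime] (N : ℕ) : Prop :=
  ∀ {G : Type u} {V : Type v} [Group G] [Finite G] [AddCommGroup V] [Finite V] [Module (ZMod p) V]
    (ρ : Representation (ZMod p) G V), Function.Injective ρ → ∀ A : Subgroup G, A ≠ ⊥ →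
    Cfsg.IsElementaryAbelian p A → IsPOff ρ A → Nat.card G + Nat.card V + Nat.card A < N →
    ∀ K : Subgroup G, Cfsg.IsComponent K → A ≤ Subgroup.normalizer (K : Set G)

end Cfsg.Agent.PGV
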