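import Mathlib
import Cfsg.Agent.PGV.Defs
import Cfsg.Agent.Helper2.Layer
import Cfsg.Agent.Helper2.Quasisimple2
import Cfsg.Agent.Helper2.PLayerCent2
import Cfsg.Agent.Helper6.BurnsidePQ

/-!
# S3086 (the `P(G,V)`-theorem), piece C: facts about components (helper2)
-/

set_option autoImplicit false

namespace Cfsg.Agent.PGV

open scoped commutatorElement

/-! ### quasisimple groups -/

section qs

variable {X : Type*} [Group X]

theorem qs_quot_not_solvable (hX : Cfsg.IsQuasisimple X) : ¬ Group.IsSolvable (X ⧸ Subgroup.center X) := by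
  intro hs
  obtain ⟨hperf, hsimp⟩ := hX
  have hcomm := (IsSimpleGroup.comm_iff_isSolvable (G := X ⧸ Subgroup.center X)).mpr hs
  have hperfQ : Group.IsPerfect (X ⧸ Subgroup.center X) :=
    Group.IsPerfect.ofSurjective (QuotientGroup.mk'_surjective (Subgroup.center X))
  have h1 : commutator (X ⧸ Subgroup.center X) = ⊥ := by
    rw [commutator_def, Subgroup.commutator_eq_bot_iff_le_centralizer]
    intro a _
    rw [Subgroup.mem_centralizer_iff]
    intro b _
    exact hcomm b a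
  have h2 : commutator (X ⧸ Subgroup.center X) = ⊤ := hperfQ.commutator_eq_top
  have h3 : (⊤ : Subgroup (X ⧸ Subgroup.center X)) = ⊥ := h2.symm.trans h1
  obtain ⟨a, b, hab⟩ := hsimp.toNontrivial
  apply hab
  have ha : a ∈ (⊥ : Subgroup (X ⧸ Subgroup.center X)) := h3 ▸ Subgroup.mem_top a
  have hb : b ∈ (⊥ : Subgroup (X ⧸ Subgroup.center X)) := h3 ▸ Subgroup.mem_top b
  rw [Subgroup.mem_bot] at ha hb
  rw [ha, hb]

/-- a quasisimple group has a non-central element of order prime to `p`. -/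
theorem qs_exists_pprime [Finite X] (hX : Cfsg.IsQuasisimple X) (p : ℕ) [hp : Fact p.Prime] :
    ∃ x : X, (orderOf x).Coprime p ∧ x ∉ Subgroup.center X := by
  by_contra hcon
  push Not at hcon
  apply qs_quot_not_solvable hX
  have hpg : IsPGroup p (X ⧸ Subgroup.center X) := by
    intro q
    induction q using QuotientGroup.induction_on with | _ x => ?_
    have ho : orderOf x ≠ 0 := (orderOf_pos x).ne'
    obtain ⟨a, m, hm, hom⟩ := Nat.exists_eq_pow_mul_and_not_dvd ho p hp.out.ne_one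
    refine ⟨a, ?_⟩
    have hord : orderOf (x ^ (p ^ a)) = m := by
      rw [orderOf_pow' x (pow_ne_zero a hp.out.ne_zero), hom, Nat.gcd_eq_right (dvd_mul_right _ _),
        Nat.mul_div_cancel_left _ (pow_pos hp.out.pos a)]
    have hcop : (orderOf (x ^ (p ^ a))).Coprime p := by
      rw [hord]
      exact ((Nat.Prime.coprime_iff_not_dvd hp.out).mpr hm).symm
    have hc := hcon _ hcop
    rw [← QuotientGroup.mk_pow]
    exact (QuotientGroup.eq_one_iff _).mpr hc
  haveI := hpg.isNilpotent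
  infer_instance

/-- a quasisimple group has an element `x` of odd order with `x^3` non-central (Burnside `p^a q^b`). -/
theorem qs_exists_odd [Finite X] (hX : Cfsg.IsQuasisimple X) :
    ∃ x : X, Odd (orderOf x) ∧ x ^ 3 ∉ Subgroup.center X := by
  by_contra hcon
  push Not at hcon
  apply qs_quot_not_solvable hX
  -- every prime divisor of `|X / Z(X)|` is `2` or `3`
  have hpr : ∀ r : ℕ, r.Prime → r ∣ Nat.card (X ⧸ Subgroup.center X) → r = 2 ∨ r = 3 := by
    intro r hr hdvd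
    haveI : Fact r.Prime := ⟨hr⟩
    obtain ⟨q, hq⟩ := exists_prime_orderOf_dvd_card' r hdvd
    induction q using QuotientGroup.induction_on with | _ x => ?_
    have ho : orderOf x ≠ 0 := (orderOf_pos x).ne'
    obtain ⟨a, m, hm, hom⟩ := Nat.exists_eq_pow_mul_and_not_dvd ho 2 (by norm_num)
    have hord : orderOf (x ^ (2 ^ a)) = m := by
      rw [orderOf_pow' x (pow_ne_zero a two_ne_zero), hom, Nat.gcd_eq_right (dvd_mul_right _ _),
        Nat.mul_div_cancel_left _ (pow_pos two_pos a)]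
    have hodd : Odd (orderOf (x ^ (2 ^ a))) := by
      rw [hord]
      exact Nat.odd_iff.mpr (Nat.two_dvd_ne_zero.mp hm)
    have hc := hcon _ hodd
    have h1 : ((x : X ⧸ Subgroup.center X)) ^ (2 ^ a * 3) = 1 := by
      rw [← QuotientGroup.mk_pow, pow_mul]
      exact (QuotientGroup.eq_one_iff _).mpr hc
    have h2 : r ∣ 2 ^ a * 3 := by
      rw [← hq]
      exact orderOf_dvd_of_pow_eq_one h1
    rcases (Nat.Prime.dvd_mul hr).mp h2 with h | h
    · left
      exact (Nat.prime_dvd_prime_iff_eq hr Nat.prime_two).mp (hr.dvd_of_dvd_pow h)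
    · right
      exact (Nat.prime_dvd_prime_iff_eq hr Nat.prime_three).mp h
  -- so the order is `2^a 3^b`
  have hn : Nat.card (X ⧸ Subgroup.center X) ≠ 0 := Nat.card_pos.ne'
  obtain ⟨a, m, hm, hcard⟩ := Nat.exists_eq_pow_mul_and_not_dvd hn 2 (by norm_num)
  have hm0 : m ≠ 0 := by
    rintro rfl
    rw [mul_zero] at hcard
    exact hn hcard
  obtain ⟨b, m', hm', hm2⟩ := Nat.exists_eq_pow_mul_and_not_dvd hm0 3 (by norm_num)
  have hm'1 : m' = 1 := by
    by_contra hne
    obtain ⟨r, hr, hrm⟩ := Nat.exists_prime_and_dvd hne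
    have hrd : r ∣ Nat.card (X ⧸ Subgroup.center X) := by
      rw [hcard, hm2]
      exact Dvd.dvd.mul_left (Dvd.dvd.mul_left hrm _) _
    rcases hpr r hr hrd with rfl | rfl
    · apply hm
      rw [hm2]
      exact Dvd.dvd.mul_left hrm _
    · exact hm' hrm
  rw [hm2, hm'1, mul_one] at hcard
  exact Cfsg.Agent.Helper6.burnside_pq 2 3 a b Nat.prime_two Nat.prime_three hcard

/-- in a perfect group: if `α` is conjugation by `c` (normalizing) and all `[c, x]` are central, then `c` is central. -/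
theorem comm_of_central_comm {G : Type*} [Group G] {K : Subgroup G} (hK : ⁅K, K⁆ = K) {c : G}
    (hc : ∀ x ∈ K, c * x * c⁻¹ ∈ K)
    (hz : ∀ x ∈ K, ∀ y ∈ K, (c * x * c⁻¹ * x⁻¹) * y = y * (c * x * c⁻¹ * x⁻¹)) : ∀ x ∈ K, c * x = x * c := by
  have hT : ⁅K, K⁆ ≤ Subgroup.centralizer {c} := by
    rw [Subgroup.commutator_le]
    intro x hx y hy
    rw [Subgroup.mem_centralizer_iff]
    intro d hd
    rw [Set.mem_singleton_iff] at hd
    subst hd
    -- `d [x,y] d⁻¹ = [x,y]`
    set z₁ := d * x * d⁻¹ * x⁻¹ with hz₁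
    set z₂ := d * y * d⁻¹ * y⁻¹ with hz₂
    have ha : d * x * d⁻¹ = z₁ * x := by rw [hz₁]; group
    have hb : d * y * d⁻¹ = z₂ * y := by rw [hz₂]; group
    have hz₁K : z₁ ∈ K := K.mul_mem (hc x hx) (K.inv_mem hx)
    have hz₂K : z₂ ∈ K := K.mul_mem (hc y hy) (K.inv_mem hy)
    have c1 : ∀ k ∈ K, z₁ * k = k * z₁ := hz x hx
    have c2 : ∀ k ∈ K, z₂ * k = k * z₂ := hz y hy
    have key : d * ⁅x, y⁆ * d⁻¹ = ⁅x, y⁆ := by
      have e1 : d * ⁅x, y⁆ * d⁻¹ = (d * x * d⁻¹) * (d * y * d⁻¹) * (d * x * d⁻¹)⁻¹ * (d * y * d⁻¹)⁻¹ := by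
        rw [commutatorElement_def]; group
      rw [e1, ha, hb, commutatorElement_def]
      -- `(z₁ x)(z₂ y)(z₁ x)⁻¹(z₂ y)⁻¹ = x y x⁻¹ y⁻¹`
      have s1 : z₁ * x * (z₂ * y) * (z₁ * x)⁻¹ = x * (z₂ * y) * x⁻¹ := by
        have hw : x * (z₂ * y) * x⁻¹ ∈ K := K.mul_mem (K.mul_mem hx (K.mul_mem hz₂K hy)) (K.inv_mem hx)
        have := c1 _ hw
        calc z₁ * x * (z₂ * y) * (z₁ * x)⁻¹ = z₁ * (x * (z₂ * y) * x⁻¹) * z₁⁻¹ := by group
          _ = (x * (z₂ * y) * x⁻¹) * z₁ * z₁⁻¹ := by rw [this]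
          _ = x * (z₂ * y) * x⁻¹ := by group
      rw [s1]
      have s2 : x * (z₂ * y) * x⁻¹ * (z₂ * y)⁻¹ = z₂ * (x * y * x⁻¹ * y⁻¹) * z₂⁻¹ := by
        have := c2 x hx
        calc x * (z₂ * y) * x⁻¹ * (z₂ * y)⁻¹ = (x * z₂) * y * x⁻¹ * y⁻¹ * z₂⁻¹ := by group
          _ = (z₂ * x) * y * x⁻¹ * y⁻¹ * z₂⁻¹ := by rw [this]
          _ = z₂ * (x * y * x⁻¹ * y⁻¹) * z₂⁻¹ := by group
      rw [s2]
      have hw : x * y * x⁻¹ * y⁻¹ ∈ K := K.mul_mem (K.mul_mem (K.mul_mem hx hy) (K.inv_mem hx)) (K.inv_mem hy)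
      rw [c2 _ hw]
      group
    calc d * ⁅x, y⁆ = (d * ⁅x, y⁆ * d⁻¹) * d := by group
      _ = ⁅x, y⁆ * d := by rw [key]
  rw [hK] at hT
  intro x hx
  have := hT hx
  rw [Subgroup.mem_centralizer_iff] at this
  exact this c rfl

end qs

/-! ### components -/

section comp

variable {G : Type*} [Group G]

theorem comp_cjS {K : Subgroup G} (hK : Cfsg.IsComponent K) (g : G) : Cfsg.IsComponent (cjS g K) :=
  Cfsg.Agent.Helper2.isComponent_cj hK g

theorem comp_commute {K K' : Subgroup G} (hK : Cfsg.IsComponent K) (hK' : Cfsg.IsComponent K') (hne : K ≠ K')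
    {x y : G} (hx : x ∈ K) (hy : y ∈ K') : x * y = y * x := by
  have h := Cfsg.Agent.Helper2.components_commute hK hK' hne
  have : ⁅x, y⁆ ∈ ⁅K, K'⁆ := Subgroup.commutator_mem_commutator hx hy
  rw [h, Subgroup.mem_bot, commutatorElement_eq_one_iff_mul_comm] at this
  exact this

theorem comp_perfect {K : Subgroup G} (hK : Cfsg.IsComponent K) : ⁅K, K⁆ = K :=
  Cfsg.Agent.Helper2.component_perfect hK

theorem comp_ne_bot {K : Subgroup G} (hK : Cfsg.IsComponent K) : K ≠ ⊥ :=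
  Cfsg.Agent.Helper2.component_ne_bot hK

theorem comp_not_comm {K : Subgroup G} (hK : Cfsg.IsComponent K) : ∃ x ∈ K, ∃ y ∈ K, x * y ≠ y * x := by
  by_contra h
  push Not at h
  exact Cfsg.Agent.Helper2.component_not_commutative hK h

/-- a subgroup of a component `K` normalized by `K` is `K` or central in `K`. -/
theorem comp_normal_dichotomy {K N : Subgroup G} (hK : Cfsg.IsComponent K) (hN : N ≤ K)
    (hnorm : ∀ x ∈ K, ∀ n ∈ N, x * n * x⁻¹ ∈ N) : N = K ∨ ∀ n ∈ N, ∀ x ∈ K, n * x = x * n := by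
  haveI : (N.subgroupOf K).Normal := by
    constructor
    intro n hn x
    rw [Subgroup.mem_subgroupOf] at hn ⊢
    exact hnorm x x.2 n hn
  rcases Cfsg.Agent.Helper2.isSubnormal_quasisimple hK.2 (N.subgroupOf K)
    (Subgroup.Normal.isSubnormal inferInstance) with h | h
  · left
    rw [Subgroup.subgroupOf_eq_top] at h
    exact le_antisymm hN h
  · right
    intro n hn x hx
    have hnK : n ∈ K := hN hn
    have : (⟨n, hnK⟩ : K) ∈ Subgroup.center K := h (by rw [Subgroup.mem_subgroupOf]; exact hn)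
    rw [Subgroup.mem_center_iff] at this
    have := this ⟨x, hx⟩
    exact (congrArg Subtype.val this).symm

/-- a subgroup of `K` normalized by `K` and containing all `[c, x]`, `x ∈ K`, where `c` normalizes `K` and does not
centralize it, is `K`. -/
theorem comp_normal_eq' {K N : Subgroup G} (hK : Cfsg.IsComponent K) (hN : N ≤ K)
    (hnorm : ∀ x ∈ K, ∀ n ∈ N, x * n * x⁻¹ ∈ N) {c : G} (hc : ∀ x ∈ K, c * x * c⁻¹ ∈ K)
    (hcz : ∃ x ∈ K, c * x ≠ x * c) (hcomm : ∀ x ∈ K, c * x * c⁻¹ * x⁻¹ ∈ N) : N = K := by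
  rcases comp_normal_dichotomy hK hN hnorm with h | h
  · exact h
  · exfalso
    obtain ⟨x, hx, hne⟩ := hcz
    exact hne (comm_of_central_comm (comp_perfect hK) hc (fun x hx y hy => h _ (hcomm x hx) y hy) x hx)

/-- the same for `c ∈ K` non-central. -/
theorem comp_normal_eq {K N : Subgroup G} (hK : Cfsg.IsComponent K) (hN : N ≤ K)
    (hnorm : ∀ x ∈ K, ∀ n ∈ N, x * n * x⁻¹ ∈ N) {c : G} (hc : c ∈ K) (hcz : ∃ x ∈ K, c * x ≠ x * c)
    (hcomm : ∀ x ∈ K, c * x * c⁻¹ * x⁻¹ ∈ N) : N = K :=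
  comp_normal_eq' hK hN hnorm (fun x hx => K.mul_mem (K.mul_mem hc hx) (K.inv_mem hc)) hcz hcomm

/-- a non-central element of order prime to `p`. -/
theorem comp_exists_pprime [Finite G] {K : Subgroup G} (hK : Cfsg.IsComponent K) (p : ℕ) [Fact p.Prime] :
    ∃ x ∈ K, (orderOf x).Coprime p ∧ ∃ y ∈ K, x * y ≠ y * x := by
  obtain ⟨x, hx, hxc⟩ := qs_exists_pprime hK.2 p
  refine ⟨x.1, x.2, ?_, ?_⟩
  · rwa [Subgroup.orderOf_coe]
  · by_contra hcon
    push Not at hcon
    apply hxc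
    rw [Subgroup.mem_center_iff]
    intro y
    exact Subtype.ext (hcon y.1 y.2).symm

/-- `K / Z(K)` is not a `{2,3}`-group: some `x ∈ K` of odd order has `x^3` non-central in `K`. -/
theorem comp_exists_odd [Finite G] {K : Subgroup G} (hK : Cfsg.IsComponent K) :
    ∃ x ∈ K, Odd (orderOf x) ∧ ∃ y ∈ K, x ^ 3 * y ≠ y * x ^ 3 := by
  obtain ⟨x, hx, hxc⟩ := qs_exists_odd hK.2
  refine ⟨x.1, x.2, ?_, ?_⟩
  · rwa [Subgroup.orderOf_coe]
  · by_contra hcon
    push Not at hcon
    apply hxc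
    rw [Subgroup.mem_center_iff]
    intro y
    exact Subtype.ext (hcon y.1 y.2).symm

theorem comp_subgroupOf {K H : Subgroup G} (hK : Cfsg.IsComponent K) (hKH : K ≤ H) :
    Cfsg.IsComponent (K.subgroupOf H) :=
  Cfsg.Agent.Helper2.isComponent_subgroupOf hK hKH

/-- the image of a component under a surjective homomorphism not killing it is a component. -/
theorem comp_map {H : Type*} [Group H] (f : G →* H) (hf : Function.Surjective f) {K : Subgroup G}
    (hK : Cfsg.IsComponent K) (hker : ¬ K ≤ f.ker) : Cfsg.IsComponent (K.map f) := by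
  refine ⟨hK.1.map hf, ?_⟩
  have hsurj : Function.Surjective (f.subgroupMap K) := f.subgroupMap_surjective K
  refine Cfsg.Agent.Helper2.isQuasisimple_of_surjective_central hK.2 (f.subgroupMap K) hsurj ?_
  rcases Cfsg.Agent.Helper2.isSubnormal_quasisimple hK.2 (f.subgroupMap K).ker
    (Subgroup.Normal.isSubnormal inferInstance) with h | h
  · exfalso
    apply hker
    intro x hx
    have : (⟨x, hx⟩ : K) ∈ (f.subgroupMap K).ker := h ▸ Subgroup.mem_top _
    rw [MonoidHom.mem_ker] at this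
    have := congrArg Subtype.val this
    simpa using this
  · exact h

end comp

end Cfsg.Agent.PGV
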