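import Mathlib
import Cfsg.Agent.PGV.Basic
import Cfsg.Agent.PGV.Below
import Cfsg.Agent.PGV.Comp

/-!
# S3086, piece R1 (helper1): `G = ⟨K^A⟩ A` (the subgroup transfer)

`notes/S3086_proof_helper2.md`, step (R1): if `H := ⟨K^a : a ∈ A⟩ A` is a proper subgroup, the theorem holds for `H` acting on `V`,
so `A` normalizes `K`.
-/

set_option autoImplicit false
set_option linter.unusedSectionVars false
set_option linter.unusedVariables false

namespace Cfsg.Agent.PGV

universe u v

section red

variable {p : ℕ} [Fact p.Prime] {G : Type u} {V : Type v} [Group G] [Finite G] [AddCommGroup V] [Finite V]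
  [Module (ZMod p) V] (ρ : Representation (ZMod p) G V)

/-- the restriction of a best offender to a subgroup containing it is a best offender. -/
theorem r1_isPOff_subgroupOf (H A : Subgroup G) (hAH : A ≤ H) (hoff : IsPOff ρ A) :
    IsPOff (ρ.comp H.subtype) (A.subgroupOf H) := by
  intro B' hB'
  set B : Subgroup G := B'.map H.subtype with hB
  have hBA : B ≤ A := by
    rintro _ ⟨b, hb, rfl⟩
    exact hB' hb
  have hkey := hoff B hBA
  have cB : Nat.card B' = Nat.card B :=
    Nat.card_congr (Subgroup.equivMapOfInjective B' H.subtype H.subtype_injective).toEquiv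
  have cA : Nat.card (A.subgroupOf H) = Nat.card A :=
    Nat.card_congr (Subgroup.subgroupOfEquivOfLe hAH).toEquiv
  have hfixB : Nat.card {v : V // ∀ b ∈ B', (ρ.comp H.subtype) b v = v} =
      Nat.card {v : V // ∀ b ∈ B, ρ b v = v} := by
    apply Nat.card_congr
    apply Equiv.subtypeEquivRight
    intro v
    constructor
    · rintro h _ ⟨b, hb, rfl⟩
      exact h b hb
    · intro h b hb
      exact h b.1 ⟨b, hb, rfl⟩
  have hfixA : Nat.card {v : V // ∀ b ∈ A.subgroupOf H, (ρ.comp H.subtype) b v = v} =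
      Nat.card {v : V // ∀ a ∈ A, ρ a v = v} := by
    apply Nat.card_congr
    apply Equiv.subtypeEquivRight
    intro v
    constructor
    · intro h a ha
      exact h ⟨a, hAH ha⟩ (Subgroup.mem_subgroupOf.mpr ha)
    · intro h b hb
      exact h b.1 (Subgroup.mem_subgroupOf.mp hb)
  rw [hfixB, hfixA, cB, cA]
  exact hkey

variable (hρ : Function.Injective ρ) (A : Subgroup G) (hA : A ≠ ⊥)
  (hAel : Cfsg.IsElementaryAbelian p A) (hoff : IsPOff ρ A)
  (IH : PGVBelow.{u, v} p (Nat.card G + Nat.card V + Nat.card A))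
  (K : Subgroup G) (hK : Cfsg.IsComponent K) (hnn : ¬ A ≤ Subgroup.normalizer (K : Set G))
include hρ hA hAel hoff IH hK hnn

/-- RED1 (pass to the subgroup `⟨K^A⟩A`). -/
theorem red_gen : (⨆ a : A, cjS (a : G) K) ⊔ A = ⊤ := by
  by_contra hne
  set H : Subgroup G := (⨆ a : A, cjS (a : G) K) ⊔ A with hH
  have hAH : A ≤ H := le_sup_right
  have hKH : K ≤ H := by
    have h1 : cjS ((1 : A) : G) K ≤ ⨆ a : A, cjS (a : G) K := le_iSup (fun a : A => cjS (a : G) K) 1
    have h2 : cjS ((1 : A) : G) K = K := by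
      ext x
      rw [mem_cjS, OneMemClass.coe_one, inv_one, one_mul, mul_one]
    rw [h2] at h1
    exact h1.trans le_sup_left
  apply hnn
  have hρ' : Function.Injective (ρ.comp H.subtype) := by
    intro x y h
    exact Subtype.ext (hρ h)
  have hA' : A.subgroupOf H ≠ ⊥ := by
    intro h
    apply hA
    rw [eq_bot_iff]
    intro a ha
    have : (⟨a, hAH ha⟩ : H) ∈ A.subgroupOf H := Subgroup.mem_subgroupOf.mpr ha
    rw [h, Subgroup.mem_bot] at this
    rw [Subgroup.mem_bot]
    exact congrArg Subtype.val this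
  have hAel' : Cfsg.IsElementaryAbelian p (A.subgroupOf H) := by
    obtain ⟨h1, h2⟩ := hAel
    refine ⟨inferInstance, ?_⟩
    intro a ha
    apply Subtype.ext
    rw [Subgroup.coe_pow]
    exact h2 a.1 (Subgroup.mem_subgroupOf.mp ha)
  have hoff' := r1_isPOff_subgroupOf ρ H A hAH hoff
  have hK' : Cfsg.IsComponent (K.subgroupOf H) := comp_subgroupOf hK hKH
  have hcard : Nat.card H + Nat.card V + Nat.card (A.subgroupOf H) <
      Nat.card G + Nat.card V + Nat.card A := by
    have h1 : Nat.card H < Nat.card G := by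
      have hle := Subgroup.card_le_card_group H
      rcases Nat.lt_or_ge (Nat.card H) (Nat.card G) with h | h
      · exact h
      · exact absurd (Subgroup.eq_top_of_card_eq H (le_antisymm hle h)) hne
    have h3 : Nat.card (A.subgroupOf H) = Nat.card A :=
      Nat.card_congr (Subgroup.subgroupOfEquivOfLe hAH).toEquiv
    omega
  have hnorm := IH (ρ.comp H.subtype) hρ' (A.subgroupOf H) hA' hAel' hoff' hcard (K.subgroupOf H) hK'
  intro a ha
  have h1 := hnorm (Subgroup.mem_subgroupOf.mpr ha : (⟨a, hAH ha⟩ : H) ∈ A.subgroupOf H)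
  rw [Subgroup.mem_normalizer_iff] at h1 ⊢
  intro g
  constructor
  · intro hg
    have := (h1 ⟨g, hKH hg⟩).mp (Subgroup.mem_subgroupOf.mpr hg)
    exact Subgroup.mem_subgroupOf.mp this
  · intro hg
    have hgH : g ∈ H := by
      have e : g = a⁻¹ * (a * g * a⁻¹) * a := by group
      rw [e]
      exact mul_mem (mul_mem (inv_mem (hAH ha)) (hKH hg)) (hAH ha)
    have := (h1 ⟨g, hgH⟩).mpr (Subgroup.mem_subgroupOf.mpr hg)
    exact Subgroup.mem_subgroupOf.mp this

end red

end Cfsg.Agent.PGV
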