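import Mathlib
import Cfsg.Agent.PGV.Basic
import Cfsg.Agent.PGV.Below
import Cfsg.Agent.PGV.Comp
import Cfsg.Agent.S3087

/-!
# S3086, piece R2 (helper1): every proper `G`-submodule is centralized by `K` (the quotient transfer)

`notes/S3086_proof_helper2.md`, step (R2): if the component `K` acts non-trivially on the proper `G`-submodule `W`, pass to
`G / C_G(W)` acting faithfully on `W`; the image of `A` is a best offender on `W` by S3087.
-/

set_option autoImplicit false
set_option linter.unusedSectionVars false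
set_option linter.unusedVariables false

namespace Cfsg.Agent.PGV

universe u v

section quot

variable {k G V : Type*} [CommRing k] [Group G] [AddCommGroup V] [Module k V] (ρ : Representation k G V)
  (W : Submodule k V) (hW : ∀ g : G, ∀ w ∈ W, ρ g w ∈ W)

/-- the representation on an invariant submodule. -/
def r2_sub : Representation k G W := ρ.subrepresentation W (fun g w hw => hW g w hw)

theorem r2_sub_apply (g : G) (w : W) : ((r2_sub ρ W hW g w : W) : V) = ρ g (w : V) := rfl

/-- the kernel of the action on `W`. -/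
abbrev r2_ker : Subgroup G := MonoidHom.ker (r2_sub ρ W hW)

theorem mem_r2_ker {g : G} : g ∈ r2_ker ρ W hW ↔ ∀ w ∈ W, ρ g w = w := by
  rw [MonoidHom.mem_ker]
  constructor
  · intro h w hw
    have := congrArg (fun f : W →ₗ[k] W => ((f ⟨w, hw⟩ : W) : V)) h
    exact this
  · intro h
    ext w
    exact h w.1 w.2

/-- the faithful representation of `G / C_G(W)` on `W`. -/
def r2_quot : Representation k (G ⧸ r2_ker ρ W hW) W :=
  QuotientGroup.lift (r2_ker ρ W hW) (r2_sub ρ W hW) le_rfl

theorem r2_quot_mk (g : G) (w : W) :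
    ((r2_quot ρ W hW (QuotientGroup.mk' (r2_ker ρ W hW) g) w : W) : V) = ρ g (w : V) := rfl

theorem r2_quot_injective : Function.Injective (r2_quot ρ W hW) := by
  intro x y h
  induction x using QuotientGroup.induction_on with
  | H a =>
    induction y using QuotientGroup.induction_on with
    | H b =>
      rw [QuotientGroup.eq, MonoidHom.mem_ker]
      have h' : r2_sub ρ W hW a = r2_sub ρ W hW b := h
      rw [map_mul, ← h', ← map_mul, inv_mul_cancel, map_one]

end quot

theorem r2_elAb_map {G H : Type*} [Group G] [Group H] (f : G →* H) {p : ℕ} {A : Subgroup G}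
    (hA : Cfsg.IsElementaryAbelian p A) : Cfsg.IsElementaryAbelian p (A.map f) := by
  obtain ⟨h1, h2⟩ := hA
  refine ⟨inferInstance, ?_⟩
  rintro _ ⟨a, ha, rfl⟩
  rw [← map_pow, h2 a ha, map_one]

/-- `|B| = |B N / N| · |B ∩ N|`. -/
theorem r2_card_map_mk {G : Type*} [Group G] (N : Subgroup G) [N.Normal] (B : Subgroup G) :
    Nat.card B = Nat.card (B ⊓ N : Subgroup G) * Nat.card (B.map (QuotientGroup.mk' N)) := by
  have h1 := Subgroup.relIndex_ker (K := B) (QuotientGroup.mk' N)
  rw [QuotientGroup.ker_mk'] at h1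
  rw [← h1, ← Subgroup.relIndex_bot_left (H := B ⊓ N), inf_comm B N, ← Subgroup.inf_relIndex_right N B,
    Subgroup.relIndex_mul_relIndex ⊥ (N ⊓ B) B bot_le inf_le_right, Subgroup.relIndex_bot_left]

section red

variable {p : ℕ} [Fact p.Prime] {G : Type u} {V : Type v} [Group G] [Finite G] [AddCommGroup V] [Finite V]
  [Module (ZMod p) V] (ρ : Representation (ZMod p) G V)

/-- the image of a best offender in `G / C_G(W)` is a best offender on `W`. -/
theorem r2_isPOff_quot (W : Submodule (ZMod p) V) (hW : ∀ g : G, ∀ w ∈ W, ρ g w ∈ W) (A : Subgroup G)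
    (hoff : IsPOff ρ A) : IsPOff (r2_quot ρ W hW) (A.map (QuotientGroup.mk' (r2_ker ρ W hW))) := by
  intro Bq hBq
  set N := r2_ker ρ W hW with hN
  set π := QuotientGroup.mk' N with hπ
  set B : Subgroup G := A ⊓ Bq.comap π with hB
  have hBA : B ≤ A := inf_le_left
  have hmapB : B.map π = Bq := by
    apply le_antisymm
    · rintro _ ⟨b, hb, rfl⟩
      exact hb.2
    · intro x hx
      obtain ⟨a, ha, rfl⟩ := hBq hx
      exact ⟨a, ⟨ha, hx⟩, rfl⟩
  have hNB : B ⊓ N = A ⊓ N := by
    apply le_antisymm
    · exact inf_le_inf_right N hBA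
    · intro x hx
      refine ⟨⟨hx.1, ?_⟩, hx.2⟩
      show π x ∈ Bq
      have : π x = 1 := by
        rw [hπ, ← MonoidHom.mem_ker, QuotientGroup.ker_mk']
        exact hx.2
      rw [this]
      exact one_mem _
  have hkey := Cfsg.Agent.S3087.result p ρ W hW A hoff B hBA (by
    intro a ha hfix
    have haN : a ∈ N := (mem_r2_ker ρ W hW).mpr hfix
    have : a ∈ B ⊓ N := by
      rw [hNB]
      exact ⟨ha, haN⟩
    exact this.1)
  -- the fixed points
  have hfixB : Nat.card {w : W // ∀ b ∈ Bq, r2_quot ρ W hW b w = w} =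
      Nat.card {w : W // ∀ b ∈ B, ρ b w = w} := by
    apply Nat.card_congr
    apply Equiv.subtypeEquivRight
    intro w
    constructor
    · intro h b hb
      have h1 := h (π b) hb.2
      have h2 := congrArg (fun z : W => (z : V)) h1
      exact h2
    · intro h b hb
      rw [← hmapB] at hb
      obtain ⟨a, ha, rfl⟩ := hb
      apply Subtype.ext
      exact h a ha
  have hfixA : Nat.card {w : W // ∀ b ∈ A.map π, r2_quot ρ W hW b w = w} =
      Nat.card {w : W // ∀ a ∈ A, ρ a w = w} := by
    apply Nat.card_congr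
    apply Equiv.subtypeEquivRight
    intro w
    constructor
    · intro h a ha
      have h1 := h (π a) ⟨a, ha, rfl⟩
      have h2 := congrArg (fun z : W => (z : V)) h1
      exact h2
    · intro h b hb
      obtain ⟨a, ha, rfl⟩ := hb
      apply Subtype.ext
      exact h a ha
  rw [hfixB, hfixA]
  have cB := r2_card_map_mk N B
  have cA := r2_card_map_mk N A
  rw [hmapB, hNB] at cB
  rw [cB, cA] at hkey
  have hpos : 0 < Nat.card (A ⊓ N : Subgroup G) := Nat.card_pos
  rw [mul_assoc, mul_assoc] at hkey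
  exact Nat.le_of_mul_le_mul_left hkey hpos

variable (hρ : Function.Injective ρ) (A : Subgroup G) (hA : A ≠ ⊥)
  (hAel : Cfsg.IsElementaryAbelian p A) (hoff : IsPOff ρ A)
  (IH : PGVBelow.{u, v} p (Nat.card G + Nat.card V + Nat.card A))
  (K : Subgroup G) (hK : Cfsg.IsComponent K) (hnn : ¬ A ≤ Subgroup.normalizer (K : Set G))
include hρ hA hAel hoff IH hK hnn

/-- RED2 (pass to `G / C_G(W)` on `W`). -/
theorem red_ind (hgen : (⨆ a : A, cjS (a : G) K) ⊔ A = ⊤) (W : Submodule (ZMod p) V)
    (hW : ∀ g : G, ∀ w ∈ W, ρ g w ∈ W) (hWne : W ≠ ⊤) : ∀ x ∈ K, ∀ w ∈ W, ρ x w = w := by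
  by_contra hcon
  push Not at hcon
  obtain ⟨x0, hx0, w0, hw0, hne0⟩ := hcon
  set N := r2_ker ρ W hW with hN
  set π := QuotientGroup.mk' N with hπ
  have hπker : π.ker = N := QuotientGroup.ker_mk' N
  have hπsurj : Function.Surjective π := QuotientGroup.mk'_surjective N
  have hKN : ¬ K ≤ N := by
    intro h
    exact hne0 ((mem_r2_ker ρ W hW).mp (h hx0) w0 hw0)
  -- an element of `A` moving `K`
  obtain ⟨a, haA, haK⟩ : ∃ a ∈ A, cjS a K ≠ K := by
    by_contra hc
    push Not at hc
    apply hnn
    intro a ha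
    rw [Subgroup.mem_normalizer_iff]
    intro h
    have e1 := hc a ha
    constructor
    · intro hh
      rw [← e1]
      exact conj_mem_cjS hh
    · intro hh
      have : a * h * a⁻¹ ∈ cjS a K := by rw [e1]; exact hh
      rw [mem_cjS] at this
      have e : a⁻¹ * (a * h * a⁻¹) * a = h := by group
      rw [e] at this
      exact this
  have hKa : Cfsg.IsComponent (cjS a K) := comp_cjS hK a
  have hcomm : ∀ x ∈ K, ∀ y ∈ cjS a K, x * y = y * x := fun x hx y hy =>
    comp_commute hK hKa (Ne.symm haK) hx hy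
  -- it suffices to show that `K / (K ∩ N)` is abelian
  have hab : (∀ k ∈ K, ∀ l ∈ K, ∃ c ∈ cjS a K, π l = π c) → False := by
    intro h
    apply hKN
    rw [← comp_perfect hK, Subgroup.commutator_le]
    intro k hk l hl
    obtain ⟨c, hc, e⟩ := h k hk l hl
    rw [← hπker, MonoidHom.mem_ker, commutatorElement_def, map_mul, map_mul, map_mul, map_inv, map_inv, e,
      ← map_inv, ← map_inv, ← map_mul, ← map_mul, ← map_mul]
    have : k * c * k⁻¹ * c⁻¹ = 1 := by
      rw [hcomm k hk c hc]
      group
    rw [this, map_one]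
  -- the image of `A` is non-trivial
  have hAq : A.map π ≠ ⊥ := by
    intro h
    rw [Subgroup.map_eq_bot_iff, hπker] at h
    apply hab
    intro k hk l hl
    refine ⟨a * l * a⁻¹, conj_mem_cjS hl, ?_⟩
    have ha1 : π a = 1 := by
      rw [← MonoidHom.mem_ker, hπker]
      exact h haA
    rw [map_mul, map_mul, map_inv, ha1, one_mul, inv_one, mul_one]
  have hAqel : Cfsg.IsElementaryAbelian p (A.map π) := r2_elAb_map π hAel
  have hAqoff : IsPOff (r2_quot ρ W hW) (A.map π) := r2_isPOff_quot ρ W hW A hoff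
  have hKq : Cfsg.IsComponent (K.map π) := comp_map π hπsurj hK (by rw [hπker]; exact hKN)
  have hcard : Nat.card (G ⧸ N) + Nat.card W + Nat.card (A.map π) <
      Nat.card G + Nat.card V + Nat.card A := by
    have h1 : Nat.card (G ⧸ N) ≤ Nat.card G := Nat.card_le_card_of_surjective π hπsurj
    have h2 : Nat.card W < Nat.card V := by
      have hlt : (W : Set V) ⊂ Set.univ := by
        rw [Set.ssubset_univ_iff]
        intro e
        apply hWne
        exact SetLike.coe_injective (by rw [e]; rfl)
      have := Set.ncard_lt_ncard hlt (Set.toFinite _)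
      rw [Set.ncard_univ] at this
      exact this
    have h3 : Nat.card (A.map π) ≤ Nat.card A := Nat.le_of_dvd Nat.card_pos (Subgroup.card_map_dvd A π)
    omega
  have hnorm := IH (r2_quot ρ W hW) (r2_quot_injective ρ W hW) (A.map π) hAq hAqel hAqoff hcard (K.map π) hKq
  -- `π a` normalizes the image of `K`
  have han : (π a)⁻¹ ∈ Subgroup.normalizer ((K.map π : Subgroup (G ⧸ N)) : Set (G ⧸ N)) :=
    inv_mem (hnorm ⟨a, haA, rfl⟩)
  apply hab
  intro k hk l hl
  rw [Subgroup.mem_normalizer_iff] at han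
  have h1 := (han (π l)).mp ⟨l, hl, rfl⟩
  obtain ⟨l', hl', e⟩ := h1
  refine ⟨a * l' * a⁻¹, conj_mem_cjS hl', ?_⟩
  rw [map_mul, map_mul, map_inv, e, inv_inv]
  group

end red

end Cfsg.Agent.PGV
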