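import Mathlib
import Cfsg.Agent.PGV.Below
import Cfsg.Agent.PGV.Red1
import Cfsg.Agent.PGV.Red2

/-!
# S3086 (the `P(G,V)`-theorem), piece M: the induction (helper2)

`red_minCE`: a counterexample of minimal size `|G| + |V| + |A|` is a `MinCE`; `pgv_main_of`: if no `MinCE` exists, the
theorem holds.
-/

set_option autoImplicit false

namespace Cfsg.Agent.PGV

universe u v

theorem card_lt_of_lt_of_finite {G : Type*} [Group G] [Finite G] {H K : Subgroup G} (hle : H ≤ K) (hne : H ≠ K) :
    Nat.card H < Nat.card K := by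
  rcases lt_or_eq_of_le (Subgroup.card_le_of_le hle) with h | h
  · exact h
  · exfalso
    apply hne
    have : (H : Set G) = (K : Set G) := by
      apply Set.eq_of_subset_of_ncard_le hle
      rw [← Nat.card_coe_set_eq, ← Nat.card_coe_set_eq]
      exact h.ge
    exact SetLike.coe_injective this

section red

variable {p : ℕ} [Fact p.Prime] {G : Type u} {V : Type v} [Group G] [Finite G] [AddCommGroup V] [Finite V]
  [Module (ZMod p) V] (ρ : Representation (ZMod p) G V) (hρ : Function.Injective ρ) (A : Subgroup G) (hA : A ≠ ⊥)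
  (hAel : Cfsg.IsElementaryAbelian p A) (hoff : IsPOff ρ A)
  (IH : PGVBelow.{u, v} p (Nat.card G + Nat.card V + Nat.card A))
  (K : Subgroup G) (hK : Cfsg.IsComponent K) (hnn : ¬ A ≤ Subgroup.normalizer (K : Set G))

include hρ hA hAel hoff IH hK hnn

/-- a counterexample of minimal size is a `MinCE`. -/
theorem red_minCE : MinCE p ρ A K where
  inj := hρ
  el := hAel
  off := hoff
  comp := hK
  nn := hnn
  gen := red_gen ρ hρ A hA hAel hoff IH K hK hnn
  ind := fun W hW hne =>
    red_ind ρ hρ A hA hAel hoff IH K hK hnn (red_gen ρ hρ A hA hAel hoff IH K hK hnn) W hW hne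
  sub := by
    intro A' hA'A hne hbot hoff' K' hK'
    have hel : Cfsg.IsElementaryAbelian p A' := by
      refine ⟨⟨⟨fun a b => ?_⟩⟩, fun a ha => hAel.2 a (hA'A ha)⟩
      have := hAel.1.is_comm.comm (⟨a.1, hA'A a.2⟩ : A) ⟨b.1, hA'A b.2⟩
      have h2 : (a : G) * (b : G) = (b : G) * (a : G) := congrArg Subtype.val this
      exact Subtype.ext h2
    have hlt : Nat.card A' < Nat.card A := card_lt_of_lt_of_finite hA'A hne
    exact IH ρ hρ A' hbot hel hoff' (by omega) K' hK'

end red

/-- **the `P(G,V)`-theorem, given that there is no minimal counterexample configuration.** -/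
theorem pgv_main_of (p : ℕ) [Fact p.Prime]
    (hfalse : ∀ {G : Type u} {V : Type v} [Group G] [Finite G] [AddCommGroup V] [Finite V] [Module (ZMod p) V]
      (ρ : Representation (ZMod p) G V) (A K : Subgroup G), MinCE p ρ A K → False) :
    ∀ N : ℕ, PGVBelow.{u, v} p N := by
  intro N
  induction N using Nat.strong_induction_on with
  | _ N ih =>
    intro G V _ _ _ _ _ ρ hρ A hA hAel hoff hlt K hK
    by_contra hnn
    have IH : PGVBelow.{u, v} p (Nat.card G + Nat.card V + Nat.card A) := ih _ hlt
    exact hfalse ρ A K (red_minCE ρ hρ A hA hAel hoff IH K hK hnn)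

end Cfsg.Agent.PGV
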