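import Mathlib
import Cfsg.Agent.PGV.Defs
import Cfsg.Agent.PGV.Comp

/-!
# S3086 (the `P(G,V)`-theorem), piece N: the norm map `x ↦ (x t)^p` on a component moved by `t` (helper2)
-/

set_option autoImplicit false
set_option linter.unusedSectionVars false

namespace Cfsg.Agent.PGV

section cjS

variable {G : Type*} [Group G]

theorem cjS_one (K : Subgroup G) : cjS 1 K = K := by
  ext x
  rw [mem_cjS]
  simp

theorem cjS_mul (g h : G) (K : Subgroup G) : cjS (g * h) K = cjS g (cjS h K) := by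
  ext x
  rw [mem_cjS, mem_cjS, mem_cjS]
  have : (g * h)⁻¹ * x * (g * h) = h⁻¹ * (g⁻¹ * x * g) * h := by group
  rw [this]

theorem cjS_inv_of_eq {g : G} {K : Subgroup G} (h : cjS g K = K) : cjS g⁻¹ K = K := by
  have := congrArg (cjS g⁻¹) h
  rw [← cjS_mul, inv_mul_cancel, cjS_one] at this
  exact this.symm

/-- the normalizer of `K`, as the set of `g` with `g K g⁻¹ = K`. -/
def nrmS (K : Subgroup G) : Subgroup G where
  carrier := {g | cjS g K = K}
  one_mem' := cjS_one K
  mul_mem' := by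
    intro a b ha hb
    show cjS (a * b) K = K
    rw [cjS_mul, hb, ha]
  inv_mem' := fun h => cjS_inv_of_eq h

theorem mem_nrmS {g : G} {K : Subgroup G} : g ∈ nrmS K ↔ cjS g K = K := Iff.rfl

theorem nrmS_eq_normalizer (K : Subgroup G) : nrmS K = Subgroup.normalizer (K : Set G) := by
  ext g
  rw [mem_nrmS, Subgroup.mem_normalizer_iff]
  constructor
  · intro h x
    constructor
    · intro hx
      have := conj_mem_cjS (g := g) hx
      rwa [h] at this
    · intro hx
      have : g * x * g⁻¹ ∈ cjS g K := by rw [h]; exact hx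
      rw [mem_cjS] at this
      have e : g⁻¹ * (g * x * g⁻¹) * g = x := by group
      rwa [e] at this
  · intro h
    ext x
    rw [mem_cjS, h (g⁻¹ * x * g)]
    have e : g * (g⁻¹ * x * g) * g⁻¹ = x := by group
    rw [e]

theorem cjS_eq_of_mem_normalizer {g : G} {K : Subgroup G} (h : g ∈ Subgroup.normalizer (K : Set G)) :
    cjS g K = K := by
  rw [← nrmS_eq_normalizer] at h
  exact h

theorem le_normalizer_iff_cjS {A K : Subgroup G} :
    A ≤ Subgroup.normalizer (K : Set G) ↔ ∀ a ∈ A, cjS a K = K := by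
  rw [← nrmS_eq_normalizer]
  rfl

theorem cjS_injective (g : G) {K K' : Subgroup G} (h : cjS g K = cjS g K') : K = K' := by
  have := congrArg (cjS g⁻¹) h
  rwa [← cjS_mul, ← cjS_mul, inv_mul_cancel, cjS_one, cjS_one] at this

end cjS

/-! ### the partial products -/

section pr

variable {G : Type*} [Group G]

/-- `pr t x n = x · (t x t⁻¹) ⋯ (t^{n-1} x t^{-(n-1)})`. -/
def pr (t x : G) : ℕ → G
  | 0 => 1
  | n + 1 => pr t x n * (t ^ n * x * (t ^ n)⁻¹)

@[simp] theorem pr_zero (t x : G) : pr t x 0 = 1 := rfl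

theorem pr_succ (t x : G) (n : ℕ) : pr t x (n + 1) = pr t x n * (t ^ n * x * (t ^ n)⁻¹) := rfl

theorem pr_one (t x : G) : pr t x 1 = x := by
  rw [pr_succ, pr_zero]
  simp

theorem mul_pow_eq_pr (t x : G) (n : ℕ) : (x * t) ^ n = pr t x n * t ^ n := by
  induction n with
  | zero => simp
  | succ n ih =>
    rw [pow_succ, ih, pr_succ, pow_succ]
    group

theorem nt_eq_pr {p : ℕ} {t : G} (htp : t ^ p = 1) (x : G) : nt p t x = pr t x p := by
  unfold nt
  rw [mul_pow_eq_pr, htp, mul_one]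

/-- `∏_{i<n} t^{i+1} x t^{-(i+1)} = x⁻¹ · ∏_{i<n+1} t^i x t^{-i}`. -/
theorem pr_conj (t x : G) (n : ℕ) : pr t (t * x * t⁻¹) n = x⁻¹ * pr t x (n + 1) := by
  induction n with
  | zero =>
    rw [pr_zero, pr_one, inv_mul_cancel]
  | succ n ih =>
    rw [pr_succ, ih, pr_succ t x (n + 1), pow_succ]
    group

theorem nt_conj_of_commute {p : ℕ} {c t : G} (hct : c * t = t * c) (x : G) :
    c * nt p t x * c⁻¹ = nt p t (c * x * c⁻¹) := by
  unfold nt
  rw [← conj_pow]
  congr 1
  have : c * (x * t) * c⁻¹ = c * x * (c⁻¹ * (c * t) * c⁻¹) := by group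
  rw [this, hct]
  group

end pr

/-! ### the norm on a component -/

section norm

variable {G : Type*} [Group G] {p : ℕ} [hp : Fact p.Prime] {K : Subgroup G} (hK : Cfsg.IsComponent K)
  {t : G} (htp : t ^ p = 1) (htK : cjS t K ≠ K)

include hK htp htK

theorem cjS_pow_ne {i j : ℕ} (hi : i < p) (hj : j < p) (hij : i ≠ j) : cjS (t ^ i) K ≠ cjS (t ^ j) K := by
  have key : ∀ i j : ℕ, i < j → j < p → cjS (t ^ i) K ≠ cjS (t ^ j) K := by
    intro i j hlt hj h
    have hd : t ^ (j - i) ∈ nrmS K := by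
      rw [mem_nrmS]
      apply cjS_injective (t ^ i)
      rw [← cjS_mul, ← pow_add, Nat.add_sub_cancel' hlt.le]
      exact h.symm
    have hdpos : 0 < j - i := Nat.sub_pos_of_lt hlt
    have hdlt : j - i < p := lt_of_le_of_lt (Nat.sub_le _ _) hj
    have hcop : Nat.Coprime (j - i) p := (Nat.coprime_of_lt_prime hdpos.ne' hdlt hp.out).symm
    obtain ⟨e, -, he⟩ := Nat.exists_mul_mod_eq_one_of_coprime hcop hp.out.one_lt
    have : t ∈ nrmS K := by
      have h1 : (t ^ (j - i)) ^ e ∈ nrmS K := (nrmS K).pow_mem hd e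
      rw [← pow_mul, pow_eq_pow_mod _ htp, he, pow_one] at h1
      exact h1
    exact htK this
  rcases lt_or_gt_of_ne hij with h | h
  · exact key i j h hj
  · exact (key j i h hi).symm

/-- `pr t y n` commutes with `K_m` for `n ≤ m < p`. -/
theorem pr_commute {y : G} (hy : y ∈ K) {n m : ℕ} (hnm : n ≤ m) (hm : m < p) {z : G}
    (hz : z ∈ cjS (t ^ m) K) : pr t y n * z = z * pr t y n := by
  induction n with
  | zero => simp
  | succ n ih =>
    rw [pr_succ]
    have hlt : n < m := Nat.lt_of_succ_le hnm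
    have h1 := ih hlt.le
    have h2 : (t ^ n * y * (t ^ n)⁻¹) * z = z * (t ^ n * y * (t ^ n)⁻¹) :=
      comp_commute (comp_cjS hK _) (comp_cjS hK _) (cjS_pow_ne hK htp htK (hlt.trans hm) hm hlt.ne)
        (conj_mem_cjS hy) hz
    rw [mul_assoc, h2, ← mul_assoc, h1, mul_assoc]

theorem pr_mul {x y : G} (hx : x ∈ K) (hy : y ∈ K) {n : ℕ} (hn : n ≤ p) :
    pr t (x * y) n = pr t x n * pr t y n := by
  induction n with
  | zero => simp
  | succ n ih =>
    have hn' : n < p := hn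
    rw [pr_succ, pr_succ, pr_succ, ih hn'.le]
    have h1 : t ^ n * (x * y) * (t ^ n)⁻¹ = (t ^ n * x * (t ^ n)⁻¹) * (t ^ n * y * (t ^ n)⁻¹) := by group
    rw [h1]
    have h2 := pr_commute hK htp htK hy (le_refl n) hn' (conj_mem_cjS (g := t ^ n) hx)
    calc pr t x n * pr t y n * ((t ^ n * x * (t ^ n)⁻¹) * (t ^ n * y * (t ^ n)⁻¹))
        = pr t x n * (pr t y n * (t ^ n * x * (t ^ n)⁻¹)) * (t ^ n * y * (t ^ n)⁻¹) := by group
      _ = pr t x n * ((t ^ n * x * (t ^ n)⁻¹) * pr t y n) * (t ^ n * y * (t ^ n)⁻¹) := by rw [h2]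
      _ = pr t x n * (t ^ n * x * (t ^ n)⁻¹) * (pr t y n * (t ^ n * y * (t ^ n)⁻¹)) := by group

theorem nt_mul {x y : G} (hx : x ∈ K) (hy : y ∈ K) : nt p t (x * y) = nt p t x * nt p t y := by
  rw [nt_eq_pr htp, nt_eq_pr htp, nt_eq_pr htp]
  exact pr_mul hK htp htK hx hy le_rfl

omit hK htK in
theorem nt_one : nt p t 1 = 1 := by
  unfold nt
  rw [one_mul, htp]

theorem nt_inv {x : G} (hx : x ∈ K) : nt p t x⁻¹ = (nt p t x)⁻¹ := by
  have h := nt_mul hK htp htK hx (K.inv_mem hx)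
  rw [mul_inv_cancel, nt_one htp] at h
  exact eq_inv_of_mul_eq_one_right h.symm

omit hK htp htK in
theorem pr_split {x : G} (hx : x ∈ K) {n : ℕ} (hn1 : 1 ≤ n) (hn : n ≤ p) :
    ∃ m ∈ ⨆ i : Fin (p - 1), cjS (t ^ (i.val + 1)) K, pr t x n = x * m := by
  induction n with
  | zero => omega
  | succ n ih =>
    rcases Nat.eq_zero_or_pos n with rfl | hpos
    · exact ⟨1, Subgroup.one_mem _, by rw [pr_one, mul_one]⟩
    · obtain ⟨m, hm, hpr⟩ := ih hpos (Nat.le_of_succ_le hn)
      refine ⟨m * (t ^ n * x * (t ^ n)⁻¹), Subgroup.mul_mem _ hm ?_, ?_⟩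
      · have hlt : n - 1 < p - 1 := by omega
        have hle : cjS (t ^ ((⟨n - 1, hlt⟩ : Fin (p - 1)).val + 1)) K ≤
            ⨆ i : Fin (p - 1), cjS (t ^ (i.val + 1)) K :=
          le_iSup (fun i : Fin (p - 1) => cjS (t ^ (i.val + 1)) K) ⟨n - 1, hlt⟩
        apply hle
        have e : (⟨n - 1, hlt⟩ : Fin (p - 1)).val + 1 = n := by
          show n - 1 + 1 = n
          omega
        rw [e]
        exact conj_mem_cjS hx
      · rw [pr_succ, hpr, mul_assoc]

/-- `(x t)^p = x · m` with `m ∈ ⟨K^{t^i} : 1 ≤ i < p⟩`. -/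
theorem nt_split {x : G} (hx : x ∈ K) :
    ∃ m ∈ ⨆ i : Fin (p - 1), cjS (t ^ (i.val + 1)) K, nt p t x = x * m := by
  rw [nt_eq_pr htp]
  exact pr_split hx hp.out.one_lt.le le_rfl

/-- `⟨K^{t^i} : 1 ≤ i < p⟩` commutes with `K`. -/
theorem M_commute {m : G} (hm : m ∈ ⨆ i : Fin (p - 1), cjS (t ^ (i.val + 1)) K) {x : G} (hx : x ∈ K) :
    m * x = x * m := by
  have hle : (⨆ i : Fin (p - 1), cjS (t ^ (i.val + 1)) K) ≤ Subgroup.centralizer {x} := by
    apply iSup_le
    intro i z hz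
    rw [Subgroup.mem_centralizer_iff]
    intro y hy
    rw [Set.mem_singleton_iff] at hy
    subst hy
    have hne : cjS (t ^ (i.val + 1)) K ≠ K := by
      have hi : i.val + 1 < p := by
        have := i.2
        omega
      have := cjS_pow_ne hK htp htK (i := i.val + 1) (j := 0) hi hp.out.pos (by omega)
      rwa [pow_zero, cjS_one] at this
    exact (comp_commute (comp_cjS hK _) hK hne hz hx).symm
  have := hle hm
  rw [Subgroup.mem_centralizer_iff] at this
  exact (this x rfl).symm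

theorem nt_conj_t {x : G} (hx : x ∈ K) : nt p t (t * x * t⁻¹) = nt p t x := by
  rw [nt_eq_pr htp, nt_eq_pr htp, pr_conj, pr_succ, htp]
  obtain ⟨m, hm, hpr⟩ := pr_split (t := t) hx hp.out.one_lt.le (le_refl p)
  rw [hpr]
  have hc := M_commute hK htp htK hm hx
  calc x⁻¹ * (x * m * (1 * x * 1⁻¹)) = m * x := by group
    _ = x * m := hc

theorem nt_comm_t {x : G} (hx : x ∈ K) : nt p t x * t = t * nt p t x := by
  have h := nt_conj_of_commute (p := p) (c := t) (t := t) rfl x
  rw [nt_conj_t hK htp htK hx] at h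
  calc nt p t x * t = (t * nt p t x * t⁻¹) * t := by rw [h]
    _ = t * nt p t x := by group

/-- norms from components in different `⟨t⟩`-orbits commute. -/
theorem nt_commute {K' : Subgroup G} (hK' : Cfsg.IsComponent K')
    (hne : ∀ i j : ℕ, cjS (t ^ i) K' ≠ cjS (t ^ j) K)
    {x y : G} (hx : x ∈ K) (hy : y ∈ K') : nt p t x * nt p t y = nt p t y * nt p t x := by
  rw [nt_eq_pr htp, nt_eq_pr htp]
  have h1 : ∀ n : ℕ, ∀ j : ℕ, ∀ z ∈ cjS (t ^ j) K', pr t x n * z = z * pr t x n := by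
    intro n
    induction n with
    | zero =>
      intro j z _
      simp
    | succ n ih =>
      intro j z hz
      rw [pr_succ]
      have h2 : (t ^ n * x * (t ^ n)⁻¹) * z = z * (t ^ n * x * (t ^ n)⁻¹) :=
        comp_commute (comp_cjS hK _) (comp_cjS hK' _) (hne j n).symm (conj_mem_cjS hx) hz
      rw [mul_assoc, h2, ← mul_assoc, ih j z hz, mul_assoc]
  have h3 : ∀ n' : ℕ, pr t x p * pr t y n' = pr t y n' * pr t x p := by
    intro n'
    induction n' with
    | zero => simp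
    | succ n' ih =>
      rw [pr_succ, ← mul_assoc, ih, mul_assoc, h1 p n' _ (conj_mem_cjS hy), ← mul_assoc]
  exact h3 p

end norm

end Cfsg.Agent.PGV
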