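import Mathlib
import Cfsg.Agent.PGV.Basic
import Cfsg.Agent.PGV.Comp
import Cfsg.Agent.PGV.Norm

/-!
# S3086 (the `P(G,V)`-theorem), piece ODD: no minimal counterexample for odd `p` (helper5)

`notes/S3086_proof_helper2.md` §3, in a simplified form which needs neither an element of order prime to `p` nor coprime action:
for a non-central `k ∈ K`, `n = N_t(k)`, `k_i = t^i k t^{-i}`, the Key Fact gives `[V,n] ≤ C_V(t)`, so every `k_i` acts on `[V,n]`
like `k`, so `g = k_i⁻¹ k_j` centralizes `[V,n]`, so `n` centralizes `[V,g]` (commuting swap).  For `1 ≤ i, j < p`, `[V,g]` is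
`K`-invariant and `[k,x]` acts on it like `[n,x]`, trivially; hence `K` centralizes `[V,g]`, hence `g` centralizes `U = [V,K]`.
For `j ≥ 1` and `i ≠ j`, `i ≥ 1` (here `p ≥ 3`), `[k_j,x]` acts on `U` like `[g,x]`, trivially (`x ∈ K_j`), so `K_j` centralizes
`U`: `M = ⟨K_1,…,K_{p-1}⟩` centralizes `[V,K]`.  Finally `K` is quadratic on `C_V(M)` by the Key Fact, hence trivial on it, hence
quadratic on `V`, hence trivial.
-/

set_option autoImplicit false

namespace Cfsg.Agent.PGV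

section general

variable {k G V : Type*} [CommRing k] [Group G] [AddCommGroup V] [Module k V] (ρ : Representation k G V)

/-- the subgroup of the elements fixing the submodule `W` pointwise. -/
def fixSub (W : Submodule k V) : Subgroup G where
  carrier := {g | ∀ w ∈ W, ρ g w = w}
  one_mem' := fun w _ => rho_one_apply ρ w
  mul_mem' := by
    intro a b ha hb w hw
    rw [rho_mul_apply, hb w hw, ha w hw]
  inv_mem' := by
    intro a ha w hw
    have := congrArg (ρ a⁻¹) (ha w hw)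
    rw [rho_inv_apply] at this
    exact this.symm

theorem mem_fixSub {W : Submodule k V} {g : G} : g ∈ fixSub ρ W ↔ ∀ w ∈ W, ρ g w = w := Iff.rfl

/-- if `c x c⁻¹ = d x d⁻¹`, `d` fixes `W` pointwise and `x⁻¹` preserves `W`, then `[c, x]` fixes `W` pointwise. -/
theorem p3_comm_fix {W : Submodule k V} {c d x : G} (hd : ∀ w ∈ W, ρ d w = w)
    (hx : ∀ w ∈ W, ρ x⁻¹ w ∈ W) (e : c * x * c⁻¹ = d * x * d⁻¹) {w : V} (hw : w ∈ W) :
    ρ (c * x * c⁻¹ * x⁻¹) w = w := by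
  rw [e, rho_mul_apply, rho_mul_apply, rho_mul_apply]
  have h1 : ρ d⁻¹ (ρ x⁻¹ w) = ρ x⁻¹ w := by
    have := congrArg (ρ d⁻¹) (hd _ (hx w hw))
    rw [rho_inv_apply] at this
    exact this.symm
  rw [h1, rho_apply_inv, hd w hw]

/-- a component which preserves `W` and contains a non-central `c` all of whose commutators `[c, x]` fix `W` pointwise
fixes `W` pointwise. -/
theorem p3_comp_fix {K : Subgroup G} (hK : Cfsg.IsComponent K) (W : Submodule k V)
    (hW : ∀ x ∈ K, ∀ w ∈ W, ρ x w ∈ W) {c : G} (hc : c ∈ K) (hcz : ∃ x ∈ K, c * x ≠ x * c)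
    (hcomm : ∀ x ∈ K, ∀ w ∈ W, ρ (c * x * c⁻¹ * x⁻¹) w = w) : ∀ x ∈ K, ∀ w ∈ W, ρ x w = w := by
  have hN : K ⊓ fixSub ρ W = K := by
    apply comp_normal_eq hK inf_le_left ?_ hc hcz ?_
    · intro x hx n hn
      refine ⟨K.mul_mem (K.mul_mem hx hn.1) (K.inv_mem hx), ?_⟩
      intro w hw
      rw [rho_mul_apply, rho_mul_apply, hn.2 _ (hW _ (K.inv_mem hx) w hw), rho_apply_inv]
    · intro x hx
      exact ⟨K.mul_mem (K.mul_mem (K.mul_mem hc hx) (K.inv_mem hc)) (K.inv_mem hx), hcomm x hx⟩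
  intro x hx w hw
  have hx' : x ∈ K ⊓ fixSub ρ W := by rw [hN]; exact hx
  exact hx'.2 w hw

end general

section odd

variable {p : ℕ} [hp : Fact p.Prime] {G V : Type*} [Group G] [AddCommGroup V] [Module (ZMod p) V]
  {ρ : Representation (ZMod p) G V} {K : Subgroup G}

/-- **§3: `p` odd.** A faithful action, a component `K` moved by `t` of order `p`, and the Key Fact (dual form) for `t` are
contradictory. -/
theorem false_of_odd_of (hp2 : p ≠ 2) (hρ : Function.Injective ρ) (hK : Cfsg.IsComponent K) {t : G}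
    (htp : t ^ p = 1) (htK : cjS t K ≠ K)
    (hKF : ∀ x ∈ K, ∀ v : V, ρ t (ρ (nt p t x) v - v) = ρ (nt p t x) v - v) : False := by
  have hp3 : 3 ≤ p := by
    have := hp.out.two_le
    omega
  obtain ⟨k, hkK, x0, hx0K, hkx0⟩ := comp_not_comm hK
  -- `M` commutes with `K`
  have hMK : ∀ m ∈ ⨆ i : Fin (p - 1), cjS (t ^ (i.val + 1)) K, ∀ x ∈ K, m * x = x * m :=
    fun m hm x hx => M_commute hK htp htK hm hx
  -- `n = N_t(k) = k m₀`
  obtain ⟨m0, hm0, hnk0⟩ := nt_split hK htp htK hkK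
  have hnt0 : nt p t k * t = t * nt p t k := nt_comm_t hK htp htK hkK
  have hKFn0 : ∀ v : V, ρ t (ρ (nt p t k) v - v) = ρ (nt p t k) v - v := hKF k hkK
  obtain ⟨n, hn⟩ : ∃ n : G, n = nt p t k := ⟨_, rfl⟩
  rw [← hn] at hnk0 hnt0 hKFn0
  have hnk : Commute n k := by
    show n * k = k * n
    rw [hnk0, mul_assoc, hMK m0 hm0 k hkK]
  have hntc : Commute n t := hnt0
  -- the conjugates `k_i`
  have hkk_mem : ∀ i : ℕ, t ^ i * k * (t ^ i)⁻¹ ∈ cjS (t ^ i) K := fun i => conj_mem_cjS hkK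
  have hnkk : ∀ i : ℕ, Commute n (t ^ i * k * (t ^ i)⁻¹) := fun i =>
    ((hntc.pow_right i).mul_right hnk).mul_right (hntc.pow_right i).inv_right
  -- distinct components commute
  have hcc : ∀ i j : ℕ, i < p → j < p → i ≠ j → ∀ a ∈ cjS (t ^ i) K, ∀ b ∈ cjS (t ^ j) K,
      a * b = b * a := fun i j hi hj hij a ha b hb =>
    comp_commute (comp_cjS hK _) (comp_cjS hK _) (cjS_pow_ne hK htp htK hi hj hij) ha hb
  have hK0 : cjS (t ^ 0) K = K := by rw [pow_zero, cjS_one]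
  -- `E = [V,n] ≤ C_V(t)`
  have hE : cm ρ {n} ≤ cV ρ {t} := by
    rw [cm_le_iff]
    intro x hx v y hy
    rw [Set.mem_singleton_iff] at hx hy
    rw [hx, hy]
    exact hKFn0 v
  have hEt : ∀ i : ℕ, ∀ e ∈ cm ρ {n}, ρ (t ^ i) e = e := by
    intro i e he
    induction i with
    | zero => rw [pow_zero, rho_one_apply]
    | succ i ih => rw [pow_succ, rho_mul_apply, hE he t rfl, ih]
  have hEtinv : ∀ i : ℕ, ∀ e ∈ cm ρ {n}, ρ (t ^ i)⁻¹ e = e := by
    intro i e he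
    have := congrArg (ρ (t ^ i)⁻¹) (hEt i e he)
    rw [rho_inv_apply] at this
    exact this.symm
  have hEk : ∀ e ∈ cm ρ {n}, ρ k e ∈ cm ρ {n} := by
    intro e he
    refine map_mem_cm_of_normalizes ρ k {n} ?_ he
    intro x hx
    rw [Set.mem_singleton_iff] at hx ⊢
    rw [hx, ← hnk.eq, mul_inv_cancel_right]
  have hEkk : ∀ i : ℕ, ∀ e ∈ cm ρ {n}, ρ (t ^ i * k * (t ^ i)⁻¹) e = ρ k e := by
    intro i e he
    rw [rho_mul_apply, rho_mul_apply, hEtinv i e he, hEt i _ (hEk e he)]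
  -- `g = k_i⁻¹ k_j` centralizes `E`, so `n` centralizes `[V, g]`
  have hEg : ∀ i j : ℕ, cm ρ {n} ≤ cV ρ {(t ^ i * k * (t ^ i)⁻¹)⁻¹ * (t ^ j * k * (t ^ j)⁻¹)} := by
    intro i j e he y hy
    rw [Set.mem_singleton_iff] at hy
    rw [hy, rho_mul_apply, hEkk j e he, ← hEkk i e he, rho_inv_apply]
  have hFg : ∀ i j : ℕ, cm ρ {(t ^ i * k * (t ^ i)⁻¹)⁻¹ * (t ^ j * k * (t ^ j)⁻¹)} ≤ cV ρ {n} := by
    intro i j
    refine (cm_le_cV_comm ρ ?_).mp (hEg i j)
    intro x hx y hy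
    rw [Set.mem_singleton_iff] at hx hy
    rw [hx, hy]
    exact ((hnkk i).inv_right.mul_right (hnkk j)).eq
  -- step 3: `K` centralizes `[V, g]`, so `g` centralizes `U = [V, K]`
  have hUg : ∀ i j : ℕ, 1 ≤ i → i < p → 1 ≤ j → j < p →
      cm ρ (K : Set G) ≤ cV ρ {(t ^ i * k * (t ^ i)⁻¹)⁻¹ * (t ^ j * k * (t ^ j)⁻¹)} := by
    intro i j hi1 hip hj1 hjp
    obtain ⟨g, hg⟩ : ∃ g : G, g = (t ^ i * k * (t ^ i)⁻¹)⁻¹ * (t ^ j * k * (t ^ j)⁻¹) := ⟨_, rfl⟩
    rw [← hg]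
    have hgK : ∀ x ∈ K, Commute x g := by
      intro x hx
      have hx0 : x ∈ cjS (t ^ 0) K := by rw [hK0]; exact hx
      have h1 : Commute x (t ^ i * k * (t ^ i)⁻¹) :=
        hcc 0 i (by omega) hip (by omega) x hx0 _ (hkk_mem i)
      have h2 : Commute x (t ^ j * k * (t ^ j)⁻¹) :=
        hcc 0 j (by omega) hjp (by omega) x hx0 _ (hkk_mem j)
      rw [hg]
      exact h1.inv_right.mul_right h2
    have hinv : ∀ x ∈ K, ∀ w ∈ cm ρ {g}, ρ x w ∈ cm ρ {g} := by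
      intro x hx w hw
      refine map_mem_cm_of_normalizes ρ x {g} ?_ hw
      intro y hy
      rw [Set.mem_singleton_iff] at hy ⊢
      rw [hy, (hgK x hx).eq, mul_inv_cancel_right]
    have hfix : ∀ x ∈ K, ∀ w ∈ cm ρ {g}, ρ x w = w := by
      apply p3_comp_fix ρ hK (cm ρ {g}) hinv hkK ⟨x0, hx0K, hkx0⟩
      intro x hx w hw
      refine p3_comm_fix ρ (d := n) (fun w hw => ?_) (fun w hw => hinv x⁻¹ (K.inv_mem hx) w hw) ?_ hw
      · have := hFg i j
        rw [← hg] at this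
        exact this hw n rfl
      · -- `k x k⁻¹ = n x n⁻¹`
        have hmx : m0 * x = x * m0 := hMK m0 hm0 x hx
        rw [hnk0]
        calc k * x * k⁻¹ = k * (x * m0 * m0⁻¹) * k⁻¹ := by rw [mul_inv_cancel_right]
          _ = k * (m0 * x * m0⁻¹) * k⁻¹ := by rw [hmx]
          _ = k * m0 * x * (k * m0)⁻¹ := by group
    refine (cm_le_cV_comm ρ ?_).mp ?_
    · intro x hx y hy
      rw [Set.mem_singleton_iff] at hx
      rw [hx]
      exact ((hgK y hy).eq).symm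
    · rw [cm_le_iff]
      intro x hx v y hy
      rw [Set.mem_singleton_iff] at hx
      rw [hx]
      exact hfix y hy _ (sub_mem_cm (Set.mem_singleton g) v)
  -- step 4: `K_j` centralizes `U` for `1 ≤ j < p`
  have hstep4 : ∀ j : ℕ, 1 ≤ j → j < p → ∀ x ∈ cjS (t ^ j) K, ∀ u ∈ cm ρ (K : Set G), ρ x u = u := by
    intro j hj1 hjp
    obtain ⟨i, hi1, hip, hij⟩ : ∃ i : ℕ, 1 ≤ i ∧ i < p ∧ i ≠ j := by
      by_cases h : j = 1
      · exact ⟨2, by omega, by omega, by omega⟩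
      · exact ⟨1, le_refl 1, by omega, fun e => h e.symm⟩
    have hUgij := hUg i j hi1 hip hj1 hjp
    obtain ⟨a, ha⟩ : ∃ a : G, a = t ^ i * k * (t ^ i)⁻¹ := ⟨_, rfl⟩
    obtain ⟨c, hc⟩ : ∃ c : G, c = t ^ j * k * (t ^ j)⁻¹ := ⟨_, rfl⟩
    have hamem : a ∈ cjS (t ^ i) K := by rw [ha]; exact hkk_mem i
    have hcmem : c ∈ cjS (t ^ j) K := by rw [hc]; exact hkk_mem j
    rw [← ha, ← hc] at hUgij
    have hac : Commute a c := hcc i j hip hjp hij a hamem c hcmem
    have hKjK : ∀ x ∈ cjS (t ^ j) K, ∀ y ∈ K, x * y = y * x := by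
      intro x hx y hy
      have hy0 : y ∈ cjS (t ^ 0) K := by rw [hK0]; exact hy
      exact (hcc 0 j (by omega) hjp (by omega) y hy0 x hx).symm
    have hUinv : ∀ x ∈ cjS (t ^ j) K, ∀ u ∈ cm ρ (K : Set G), ρ x u ∈ cm ρ (K : Set G) := by
      intro x hx u hu
      refine map_mem_cm_of_normalizes ρ x K ?_ hu
      intro y hy
      rw [hKjK x hx y hy, mul_inv_cancel_right]
      exact hy
    apply p3_comp_fix ρ (comp_cjS hK (t ^ j)) (cm ρ (K : Set G)) hUinv hcmem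
    · refine ⟨t ^ j * x0 * (t ^ j)⁻¹, conj_mem_cjS hx0K, ?_⟩
      intro e
      apply hkx0
      rw [hc] at e
      have e2 : t ^ j * (k * x0) * (t ^ j)⁻¹ = t ^ j * (x0 * k) * (t ^ j)⁻¹ := by
        calc t ^ j * (k * x0) * (t ^ j)⁻¹
            = t ^ j * k * (t ^ j)⁻¹ * (t ^ j * x0 * (t ^ j)⁻¹) := by group
          _ = t ^ j * x0 * (t ^ j)⁻¹ * (t ^ j * k * (t ^ j)⁻¹) := e
          _ = t ^ j * (x0 * k) * (t ^ j)⁻¹ := by group
      exact mul_left_cancel (mul_right_cancel e2)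
    · intro x hx u hu
      refine p3_comm_fix ρ (d := a⁻¹ * c) (fun w hw => hUgij hw _ rfl)
        (fun w hw => hUinv x⁻¹ (inv_mem hx) w hw) ?_ hu
      -- `c x c⁻¹ = g x g⁻¹` with `g = a⁻¹ c`
      have hax : Commute a x := hcc i j hip hjp hij a hamem x hx
      have hag : Commute a (a⁻¹ * c) := (Commute.refl a).inv_right.mul_right hac
      have hcom : Commute a ((a⁻¹ * c) * x * (a⁻¹ * c)⁻¹) := (hag.mul_right hax).mul_right hag.inv_right
      calc c * x * c⁻¹ = a * ((a⁻¹ * c) * x * (a⁻¹ * c)⁻¹) * a⁻¹ := by group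
        _ = (a⁻¹ * c) * x * (a⁻¹ * c)⁻¹ := by rw [hcom.eq, mul_inv_cancel_right]
  -- `M` centralizes `U`
  have hMU : ∀ m ∈ ⨆ i : Fin (p - 1), cjS (t ^ (i.val + 1)) K, ∀ u ∈ cm ρ (K : Set G), ρ m u = u := by
    have hle : (⨆ i : Fin (p - 1), cjS (t ^ (i.val + 1)) K) ≤ fixSub ρ (cm ρ (K : Set G)) := by
      apply iSup_le
      intro i x hx u hu
      exact hstep4 (i.val + 1) (by omega) (by have := i.isLt; omega) x hx u hu
    exact fun m hm u hu => hle hm u hu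
  -- step 5
  obtain ⟨M, hM⟩ : ∃ M : Subgroup G, M = ⨆ i : Fin (p - 1), cjS (t ^ (i.val + 1)) K := ⟨_, rfl⟩
  rw [← hM] at hMU hMK hm0
  have hWinv : ∀ x ∈ K, ∀ w ∈ cV ρ (M : Set G), ρ x w ∈ cV ρ (M : Set G) := by
    intro x hx w hw
    refine map_mem_cV_of_normalizes ρ x M ?_ hw
    intro m hm
    have e : x⁻¹ * m * x = m := by
      rw [mul_assoc, hMK m hm x hx, inv_mul_cancel_left]
    rw [e]
    exact hm
  have htxM : ∀ x ∈ K, t * x * t⁻¹ ∈ M := by
    intro x hx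
    have hle : cjS (t ^ ((⟨0, by omega⟩ : Fin (p - 1)).val + 1)) K ≤ M := by
      rw [hM]
      exact le_iSup (fun i : Fin (p - 1) => cjS (t ^ (i.val + 1)) K) ⟨0, by omega⟩
    apply hle
    have : t ^ ((⟨0, by omega⟩ : Fin (p - 1)).val + 1) = t := by
      show t ^ (0 + 1) = t
      rw [zero_add, pow_one]
    rw [this]
    exact conj_mem_cjS hx
  have hq1 : ∀ x ∈ K, ∀ y ∈ K, ∀ w ∈ cV ρ (M : Set G), ρ x (ρ y w - w) = ρ y w - w := by
    intro x hx y hy w hw
    obtain ⟨m, hm, hsplit⟩ := nt_split hK htp htK hy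
    rw [← hM] at hm
    have hu1 : ρ y w - w = ρ (nt p t y) w - w := by
      rw [hsplit, rho_mul_apply, hw m hm]
    have hut : ρ t (ρ y w - w) = ρ y w - w := by
      rw [hu1]
      exact hKF y hy w
    have hutinv : ρ t⁻¹ (ρ y w - w) = ρ y w - w := by
      have := congrArg (ρ t⁻¹) hut
      rw [rho_inv_apply] at this
      exact this.symm
    have huM : ρ y w - w ∈ cV ρ (M : Set G) := Submodule.sub_mem _ (hWinv y hy w hw) hw
    have e : ρ x (ρ y w - w) = ρ t⁻¹ (ρ (t * x * t⁻¹) (ρ t (ρ y w - w))) := by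
      rw [← rho_mul_apply, ← rho_mul_apply]
      congr 2
      group
    rw [e, hut, huM _ (htxM x hx), hutinv]
  have hKW := perfect_quadratic' ρ K (comp_perfect hK) (cV ρ (M : Set G)) hWinv hq1
  have hUW : cm ρ (K : Set G) ≤ cV ρ (M : Set G) := fun u hu m hm => hMU m hm u hu
  have hKV := perfect_quadratic' ρ K (comp_perfect hK) ⊤ (fun _ _ _ _ => Submodule.mem_top)
    (fun x hx y hy w _ => hKW x hx _ (hUW (sub_mem_cm hy w)))
  have hk1 : k = 1 := by
    apply hρ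
    ext v
    rw [hKV k hkK v Submodule.mem_top, map_one]
    rfl
  apply hkx0
  rw [hk1, one_mul, mul_one]

end odd

end Cfsg.Agent.PGV
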