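import Mathlib
import Cfsg.Agent.PGV.Defs
import Cfsg.Agent.PGV.Basic
import Cfsg.Agent.PGV.Comp
import Cfsg.Agent.PGV.Norm

/-!
# S3086 (the `P(G,V)`-theorem), piece S3: first consequences of a minimal counterexample (helper2)

`lay A K = ⟨K^a : a ∈ A⟩`, `MinCE.lay_normal`, `MinCE.cm_lay : [V, L] = V`, `MinCE.cent_trivial : C_A(K) = 1`,
`MinCE.conj`.
-/

set_option autoImplicit false
set_option linter.unusedSectionVars false

namespace Cfsg.Agent.PGV

open scoped commutatorElement

/-- `L = ⟨K^a : a ∈ A⟩`. -/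
def lay {G : Type*} [Group G] (A K : Subgroup G) : Subgroup G := ⨆ a : A, cjS (a : G) K

section lay

variable {G : Type*} [Group G] {A K : Subgroup G}

theorem cjS_le_lay {a : G} (ha : a ∈ A) : cjS a K ≤ lay A K :=
  le_iSup (fun a : A => cjS (a : G) K) ⟨a, ha⟩

theorem le_lay : K ≤ lay A K := by
  have := cjS_le_lay (A := A) (K := K) A.one_mem
  rwa [cjS_one] at this

theorem lay_le_iff {H : Subgroup G} : lay A K ≤ H ↔ ∀ a ∈ A, cjS a K ≤ H := by
  unfold lay
  rw [iSup_le_iff]
  exact ⟨fun h a ha => h ⟨a, ha⟩, fun h a => h a.1 a.2⟩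

theorem conj_mem_lay_of_mem {a x : G} (ha : a ∈ A) (hx : x ∈ lay A K) : a * x * a⁻¹ ∈ lay A K := by
  have h : lay A K ≤ (lay A K).comap (MulAut.conj a).toMonoidHom := by
    rw [lay_le_iff]
    intro b hb y hy
    rw [Subgroup.mem_comap]
    have : (MulAut.conj a).toMonoidHom y = a * y * a⁻¹ := by simp [MulAut.conj_apply]
    rw [this]
    have h2 : a * y * a⁻¹ ∈ cjS a (cjS b K) := conj_mem_cjS hy
    rw [← cjS_mul] at h2
    exact cjS_le_lay (A.mul_mem ha hb) h2
  have := h hx
  rw [Subgroup.mem_comap] at this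
  simpa [MulAut.conj_apply] using this

end lay

section s3

variable {p : ℕ} [hp : Fact p.Prime] {G V : Type*} [Group G] [Finite G] [AddCommGroup V] [Finite V]
  [Module (ZMod p) V] {ρ : Representation (ZMod p) G V} {A K : Subgroup G}

theorem MinCE.comm (h : MinCE p ρ A K) {a b : G} (ha : a ∈ A) (hb : b ∈ A) : a * b = b * a := by
  have := h.el.1
  have h1 := this.is_comm.comm (⟨a, ha⟩ : A) ⟨b, hb⟩
  exact congrArg Subtype.val h1

theorem MinCE.pow_eq_one (h : MinCE p ρ A K) {a : G} (ha : a ∈ A) : a ^ p = 1 := h.el.2 a ha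

/-- `L ⊴ G`. -/
theorem MinCE.lay_normal (h : MinCE p ρ A K) (g : G) {x : G} (hx : x ∈ lay A K) : g * x * g⁻¹ ∈ lay A K := by
  have hle : lay A K ⊔ A ≤ Subgroup.normalizer ((lay A K : Subgroup G) : Set G) := by
    apply sup_le
    · exact Subgroup.le_normalizer
    · intro a ha
      rw [Subgroup.mem_normalizer_iff]
      intro y
      constructor
      · exact fun hy => conj_mem_lay_of_mem ha hy
      · intro hy
        have := conj_mem_lay_of_mem (A.inv_mem ha) hy
        have e : a⁻¹ * (a * y * a⁻¹) * a⁻¹⁻¹ = y := by group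
        rwa [e] at this
  have hg : g ∈ Subgroup.normalizer ((lay A K : Subgroup G) : Set G) := by
    apply hle
    have := h.gen
    unfold lay
    rw [this]
    exact Subgroup.mem_top g
  exact (Subgroup.mem_normalizer_iff.mp hg x).mp hx

/-- `K` does not act trivially. -/
theorem MinCE.exists_moved (h : MinCE p ρ A K) : ∃ x ∈ K, ∃ v : V, ρ x v ≠ v := by
  by_contra hcon
  push Not at hcon
  apply comp_ne_bot h.comp
  rw [eq_bot_iff]
  intro x hx
  rw [Subgroup.mem_bot]
  apply h.inj
  rw [map_one]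
  ext v
  exact hcon x hx v

/-- `V = [V, L]`. -/
theorem MinCE.cm_lay (h : MinCE p ρ A K) : cm ρ ((lay A K : Subgroup G) : Set G) = ⊤ := by
  by_contra hne
  have hinv : ∀ g : G, ∀ w ∈ cm ρ ((lay A K : Subgroup G) : Set G), ρ g w ∈ cm ρ ((lay A K : Subgroup G) : Set G) :=
    fun g w hw => map_mem_cm_of_normalizes ρ g _ (fun x hx => h.lay_normal g hx) hw
  have hcent := h.ind _ hinv hne
  have htriv := perfect_quadratic' ρ K (comp_perfect h.comp) ⊤ (fun _ _ _ _ => Submodule.mem_top)
    (fun x hx y hy w _ => hcent x hx _ (cm_mono ρ (fun z hz => le_lay hz) (sub_mem_cm hy w)))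
  obtain ⟨x, hx, v, hv⟩ := h.exists_moved
  exact hv (htriv x hx v Submodule.mem_top)

/-- if all `[V, K^a] ≤ U` then `U = V`. -/
theorem MinCE.eq_top_of_forall_cm_le (h : MinCE p ρ A K) {U : Submodule (ZMod p) V}
    (hU : ∀ a ∈ A, cm ρ ((cjS a K : Subgroup G) : Set G) ≤ U) : U = ⊤ := by
  rw [eq_top_iff, ← h.cm_lay, cm_le_iff_le_cmSub]
  have : lay A K ≤ cmSub ρ U := by
    rw [lay_le_iff]
    intro a ha
    exact (cm_le_iff_le_cmSub ρ).mp (hU a ha)
  exact this

/-- the stub form: `[V, ⋃ K^a] = V`. -/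
theorem MinCE.cm_layer (h : MinCE p ρ A K) : cm ρ (⋃ a ∈ A, ((cjS a K : Subgroup G) : Set G)) = ⊤ :=
  h.eq_top_of_forall_cm_le (fun a ha => cm_mono ρ (fun x hx => Set.mem_biUnion ha hx))

/-- `(ρ c - 1)^p = 0` if `c^p = 1`. -/
theorem sub_one_pow_eq_zero {c : G} (hc : c ^ p = 1) : (ρ c - (1 : Module.End (ZMod p) V)) ^ p = 0 := by
  have h1 : ((Polynomial.X : Polynomial (ZMod p)) - 1) ^ p = Polynomial.X ^ p - 1 := by
    rw [sub_pow_char, one_pow]
  have h2 := congrArg (Polynomial.aeval (ρ c)) h1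
  rw [map_pow, map_sub, map_sub, map_pow, Polynomial.aeval_X, map_one, ← map_pow, hc, map_one, sub_self] at h2
  exact h2

/-- `[V, c] ≠ V` for a `p`-element `c` (if `V ≠ 0`). -/
theorem cm_singleton_ne_top [Nontrivial V] {c : G} (hc : c ^ p = 1) : cm ρ ({c} : Set G) ≠ ⊤ := by
  intro htop
  have hsurj : Function.Surjective (ρ c - (1 : Module.End (ZMod p) V)) := by
    intro v
    have hv : v ∈ cm ρ ({c} : Set G) := htop ▸ Submodule.mem_top
    have hle : cm ρ ({c} : Set G) ≤ LinearMap.range (ρ c - (1 : Module.End (ZMod p) V)) := by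
      rw [cm_le_iff]
      intro x hx u
      rw [Set.mem_singleton_iff] at hx
      subst hx
      exact ⟨u, by simp⟩
    exact hle hv
  have hpow : Function.Surjective ((ρ c - (1 : Module.End (ZMod p) V)) ^ p : Module.End (ZMod p) V) := by
    have : ∀ n : ℕ, Function.Surjective ((ρ c - (1 : Module.End (ZMod p) V)) ^ n : Module.End (ZMod p) V) := by
      intro n
      induction n with
      | zero =>
        rw [pow_zero]
        exact Function.surjective_id
      | succ n ih =>
        rw [pow_succ]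
        exact ih.comp hsurj
    exact this p
  rw [sub_one_pow_eq_zero (ρ := ρ) hc] at hpow
  obtain ⟨v, hv⟩ := exists_ne (0 : V)
  obtain ⟨u, hu⟩ := hpow v
  exact hv hu.symm

/-- `C_A(K) = 1`. -/
theorem MinCE.cent_trivial (h : MinCE p ρ A K) {c : G} (hc : c ∈ A) (hcK : ∀ x ∈ K, c * x = x * c) : c = 1 := by
  -- `V ≠ 0`
  obtain ⟨x₀, hx₀, v₀, hv₀⟩ := h.exists_moved
  haveI : Nontrivial V := ⟨⟨ρ x₀ v₀, v₀, hv₀⟩⟩
  -- `c` commutes with `L`
  have hcL : ∀ x ∈ lay A K, c * x = x * c := by
    have : lay A K ≤ Subgroup.centralizer {c} := by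
      rw [lay_le_iff]
      intro a ha x hx
      rw [Subgroup.mem_centralizer_iff]
      intro d hd
      rw [Set.mem_singleton_iff] at hd
      subst hd
      rw [mem_cjS] at hx
      have h1 := hcK _ hx
      have h2 := h.comm hc ha
      -- `d (a y a⁻¹) = (a y a⁻¹) d`, `y = a⁻¹ x a`
      have e : x = a * (a⁻¹ * x * a) * a⁻¹ := by group
      rw [e]
      calc d * (a * (a⁻¹ * x * a) * a⁻¹) = (d * a) * (a⁻¹ * x * a) * a⁻¹ := by group
        _ = a * (d * (a⁻¹ * x * a)) * a⁻¹ := by rw [h2]; group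
        _ = a * ((a⁻¹ * x * a) * d) * a⁻¹ := by rw [h1]
        _ = a * (a⁻¹ * x * a) * (a⁻¹ * (a * d) * a⁻¹) := by group
        _ = a * (a⁻¹ * x * a) * (a⁻¹ * (d * a) * a⁻¹) := by rw [h2]
        _ = a * (a⁻¹ * x * a) * a⁻¹ * d := by group
    intro x hx
    have := this hx
    rw [Subgroup.mem_centralizer_iff] at this
    exact this c rfl
  -- `c` is central in `G`
  have hcG : ∀ g : G, c * g = g * c := by
    have : lay A K ⊔ A ≤ Subgroup.centralizer {c} := by
      apply sup_le
      · intro x hx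
        rw [Subgroup.mem_centralizer_iff]
        intro d hd
        rw [Set.mem_singleton_iff] at hd
        subst hd
        exact hcL x hx
      · intro a ha
        rw [Subgroup.mem_centralizer_iff]
        intro d hd
        rw [Set.mem_singleton_iff] at hd
        subst hd
        exact h.comm hc ha
    intro g
    have hg : g ∈ lay A K ⊔ A := by
      have := h.gen
      unfold lay
      rw [this]
      exact Subgroup.mem_top g
    have := this hg
    rw [Subgroup.mem_centralizer_iff] at this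
    exact this c rfl
  -- `[V, c]` is a proper `G`-submodule
  have hinv : ∀ g : G, ∀ w ∈ cm ρ ({c} : Set G), ρ g w ∈ cm ρ ({c} : Set G) := by
    intro g w hw
    refine map_mem_cm_of_normalizes ρ g _ ?_ hw
    intro x hx
    rw [Set.mem_singleton_iff] at hx
    subst hx
    rw [Set.mem_singleton_iff, ← hcG g]
    group
  have hne := cm_singleton_ne_top (ρ := ρ) (h.pow_eq_one hc)
  have hcent := h.ind _ hinv hne
  -- every `K^a` centralizes `[V, c]`, hence `c` centralizes `[V, K^a]`
  have hall : ∀ a ∈ A, cm ρ ((cjS a K : Subgroup G) : Set G) ≤ cV ρ ({c} : Set G) := by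
    intro a ha
    rw [cm_le_iff]
    intro x hx v d hd
    rw [Set.mem_singleton_iff] at hd
    subst hd
    -- `x` fixes `(d-1)v`
    have hfix : ρ x (ρ d v - v) = ρ d v - v := by
      have hx : x ∈ cjS a K := hx
      rw [mem_cjS] at hx
      have hw : ρ a⁻¹ (ρ d v - v) ∈ cm ρ ({d} : Set G) :=
        hinv a⁻¹ _ (sub_mem_cm (Set.mem_singleton d) v)
      have h1 := hcent _ hx _ hw
      have e : x = a * (a⁻¹ * x * a) * a⁻¹ := by group
      have e2 : ρ x (ρ d v - v) = ρ a (ρ (a⁻¹ * x * a) (ρ a⁻¹ (ρ d v - v))) := by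
        rw [← rho_mul_apply, ← rho_mul_apply, ← e]
      rw [e2, h1, rho_apply_inv]
    exact fix_sub_of_commute ρ (hcL x (cjS_le_lay ha hx)) hfix
  have htop := h.eq_top_of_forall_cm_le hall
  apply h.inj
  rw [map_one]
  ext v
  have hv : v ∈ cV ρ ({c} : Set G) := htop ▸ Submodule.mem_top
  exact hv c rfl

/-- `MinCE` for a conjugate of `K` under `A`. -/
theorem MinCE.conj (h : MinCE p ρ A K) {a : G} (ha : a ∈ A) : MinCE p ρ A (cjS a K) where
  inj := h.inj
  el := h.el
  off := h.off
  comp := comp_cjS h.comp a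
  nn := by
    intro hn
    apply h.nn
    rw [le_normalizer_iff_cjS] at hn ⊢
    intro b hb
    have h1 := hn b hb
    rw [← cjS_mul, h.comm hb ha, cjS_mul] at h1
    exact cjS_injective a h1
  gen := by
    have hg := h.gen
    have e : (⨆ b : A, cjS (b : G) (cjS a K)) = ⨆ b : A, cjS (b : G) K := by
      apply le_antisymm
      · apply iSup_le
        intro b
        rw [← cjS_mul]
        exact le_iSup (fun b : A => cjS (b : G) K) ⟨(b : G) * a, A.mul_mem b.2 ha⟩
      · apply iSup_le
        intro b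
        have : cjS (b : G) K = cjS ((b : G) * a⁻¹) (cjS a K) := by
          rw [← cjS_mul]
          congr 1
          group
        rw [this]
        exact le_iSup (fun b : A => cjS (b : G) (cjS a K)) ⟨(b : G) * a⁻¹, A.mul_mem b.2 (A.inv_mem ha)⟩
    rw [e]
    exact hg
  ind := by
    intro W hW hne x hx w hw
    rw [mem_cjS] at hx
    have h1 := h.ind W hW hne _ hx _ (hW a⁻¹ w hw)
    have e : x = a * (a⁻¹ * x * a) * a⁻¹ := by group
    have e2 : ρ x w = ρ a (ρ (a⁻¹ * x * a) (ρ a⁻¹ w)) := by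
      rw [← rho_mul_apply, ← rho_mul_apply, ← e]
    rw [e2, h1, rho_apply_inv]
  sub := h.sub

end s3

end Cfsg.Agent.PGV
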