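import Mathlib
import Cfsg.Agent.PGV.Odd
import Cfsg.Agent.PGV.Step3

/-!
# S3086 (the `P(G,V)`-theorem), piece ODD: `MinCE.false_of_odd_of` (helper5)

No minimal counterexample configuration for odd `p`, given the Key Fact in the dual form (`MinCE.keyFact'`, piece KF) as a
hypothesis: `h.false_of_odd_of hp (fun ht htK hx v => h.keyFact' ht htK hx v)`.
-/

set_option autoImplicit false

namespace Cfsg.Agent.PGV

theorem MinCE.false_of_odd_of {p : ℕ} [Fact p.Prime] {G V : Type*} [Group G] [Finite G] [AddCommGroup V]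
    [Finite V] [Module (ZMod p) V] {ρ : Representation (ZMod p) G V} {A K : Subgroup G}
    (h : MinCE p ρ A K) (hp : p ≠ 2)
    (hKF : ∀ {t : G}, t ∈ A → cjS t K ≠ K → ∀ {x : G}, x ∈ K → ∀ v : V,
      ρ t (ρ (nt p t x) v - v) = ρ (nt p t x) v - v) : False := by
  have hnn := h.nn
  rw [le_normalizer_iff_cjS] at hnn
  push Not at hnn
  obtain ⟨t, htA, htK⟩ := hnn
  exact _root_.Cfsg.Agent.PGV.false_of_odd_of hp h.inj h.comp (h.pow_eq_one htA) htK (fun x hx v => hKF htA htK hx v)

end Cfsg.Agent.PGV
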