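import Mathlib
import Cfsg.Agent.PGV.Basic
import Cfsg.Agent.PGV.Comp
import Cfsg.Agent.PGV.Norm
import Cfsg.Agent.PGV.Step3

/-!
# S3086, pieces 7a and 7b (helper1): `p = 2`

`notes/S3086_proof_helper2.md`, §4: (7a) `V = [V,K]`; (7b) `V = C_V(t) + C_V(t')` for `t ≠ t'` in `A` both moving `K`.
The key fact (piece KF) enters as the hypothesis `KFHyp ρ A` (for all components at once).
-/

set_option autoImplicit false
set_option linter.unusedSectionVars false
set_option linter.unusedVariables false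

namespace Cfsg.Agent.PGV

open scoped commutatorElement

section two

variable {G V : Type*} [Group G] [Finite G] [AddCommGroup V] [Finite V] [Module (ZMod 2) V]
  {ρ : Representation (ZMod 2) G V} {A K : Subgroup G}

theorem p7a_sq_one (h : MinCE 2 ρ A K) {t : G} (ht : t ∈ A) : t * t = 1 := by
  have := h.el.2 t ht
  rwa [pow_two] at this

theorem p7a_inv_eq (h : MinCE 2 ρ A K) {t : G} (ht : t ∈ A) : t⁻¹ = t :=
  inv_eq_of_mul_eq_one_right (p7a_sq_one h ht)

/-- `(x t)² = x · t x t⁻¹`. -/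
theorem p7a_nt (h : MinCE 2 ρ A K) {t : G} (ht : t ∈ A) (x : G) : nt 2 t x = x * (t * x * t⁻¹) := by
  unfold nt
  rw [pow_two, p7a_inv_eq h ht]
  simp only [mul_assoc]

/-- `[V, K']` is invariant under a component `K ≠ K'`. -/
theorem p7a_map_cm {K K' : Subgroup G} (hK : Cfsg.IsComponent K) (hK' : Cfsg.IsComponent K') (hne : K ≠ K')
    {x : G} (hx : x ∈ K) {v : V} (hv : v ∈ cm ρ (K' : Set G)) : ρ x v ∈ cm ρ (K' : Set G) := by
  refine map_mem_cm_of_normalizes ρ x (K' : Set G) (fun y hy => ?_) hv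
  rw [comp_commute hK hK' hne hx hy, mul_inv_cancel_right]
  exact hy

/-- the key fact (piece KF) for all components moved by `A`. -/
def KFHyp (ρ : Representation (ZMod 2) G V) (A : Subgroup G) : Prop :=
  ∀ (K : Subgroup G), MinCE 2 ρ A K → ∀ t ∈ A, cjS t K ≠ K → ∀ x ∈ K, ∀ v : V,
    ρ (nt 2 t x) (ρ t v - v) = ρ t v - v

/-- the dual form of the key fact. -/
theorem KFHyp.dual (H : KFHyp ρ A) (h : MinCE 2 ρ A K) {t : G} (ht : t ∈ A) (htK : cjS t K ≠ K) {x : G}
    (hx : x ∈ K) (v : V) : ρ t (ρ (nt 2 t x) v - v) = ρ (nt 2 t x) v - v := by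
  have hc : t * nt 2 t x = nt 2 t x * t := (nt_comm_t h.comp (h.pow_eq_one ht) htK hx).symm
  exact fix_sub_of_commute ρ hc (H K h t ht htK x hx v)

/-- (7a), the main step: `[V,K] ≤ [V,K^t]` for `t ∈ A` moving `K`. -/
theorem MinCE.p7a_cm_le (h : MinCE 2 ρ A K) (H : KFHyp ρ A) {t : G} (ht : t ∈ A) (htK : cjS t K ≠ K) :
    cm ρ (K : Set G) ≤ cm ρ ((cjS t K : Subgroup G) : Set G) := by
  have hK := h.comp
  have hK' : Cfsg.IsComponent (cjS t K) := comp_cjS hK t
  have hne : K ≠ cjS t K := Ne.symm htK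
  set U' := cm ρ ((cjS t K : Subgroup G) : Set G) with hU'
  have hinv : ∀ x ∈ K, ∀ u ∈ U', ρ x u ∈ U' := fun x hx u hu => p7a_map_cm hK hK' hne hx hu
  -- (1) `[V,t,K] ≤ U'`
  have h1 : ∀ x ∈ K, ∀ w ∈ cm ρ ({t} : Set G), ρ x w - w ∈ U' := by
    intro x hx w hw
    have hle : cm ρ ({t} : Set G) ≤ (U'.comap (ρ x - LinearMap.id)) := by
      rw [cm_le_iff]
      intro s hs v
      rw [Set.mem_singleton_iff] at hs
      subst hs
      rw [Submodule.mem_comap, LinearMap.sub_apply, LinearMap.id_apply]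
      set u := ρ s v - v with hu
      have hkf := H K h s ht htK x hx v
      rw [p7a_nt h ht, rho_mul_apply, ← hu] at hkf
      clear_value u
      -- `x (x' u) = u`
      have e : ρ x u - u = -(ρ x (ρ (s * x * s⁻¹) u - u)) := by
        rw [map_sub, hkf]
        abel
      rw [e]
      exact U'.neg_mem (hinv x hx _ (sub_mem_cm (conj_mem_cjS hx) u))
    have := hle hw
    rwa [Submodule.mem_comap, LinearMap.sub_apply, LinearMap.id_apply] at this
  -- (2) `[V,K] ≤ [V,t] + U'`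
  have h2 : ∀ x ∈ K, ∀ v : V, ρ x v - v ∈ cm ρ ({t} : Set G) ⊔ U' := by
    intro x hx v
    have hti := p7a_inv_eq h ht
    set y := t * x * t⁻¹ with hy
    have hyK : y ∈ cjS t K := conj_mem_cjS hx
    have ex : x = t * y * t := by
      rw [hy, hti]
      have e := p7a_sq_one h ht
      calc x = (t * t) * x * (t * t) := by rw [e, one_mul, mul_one]
        _ = t * (t * x * t) * t := by simp only [mul_assoc]
    have e : ρ x v - v = (ρ t (ρ y (ρ t v)) - ρ y (ρ t v)) + (ρ y (ρ t v) - ρ t v) + (ρ t v - v) := by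
      conv_lhs => rw [ex, rho_mul_apply, rho_mul_apply]
      abel
    rw [e]
    refine Submodule.add_mem _ (Submodule.add_mem _ ?_ ?_) ?_
    · exact Submodule.mem_sup_left (sub_mem_cm (Set.mem_singleton t) _)
    · exact Submodule.mem_sup_right (sub_mem_cm hyK _)
    · exact Submodule.mem_sup_left (sub_mem_cm (Set.mem_singleton t) _)
  -- (3) `[V,K,K] ≤ U'`, and (Q)
  have h3 := perfect_quadratic ρ K (comp_perfect hK) ⊤ U' (fun _ _ _ _ => Submodule.mem_top) hinv (by
    intro x hx y hy w _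
    obtain ⟨w1, hw1, w2, hw2, e⟩ := Submodule.mem_sup.mp (h2 y hy w)
    rw [← e, map_add]
    have : ρ x w1 + ρ x w2 - (w1 + w2) = (ρ x w1 - w1) + (ρ x w2 - w2) := by abel
    rw [this]
    exact U'.add_mem (h1 x hx w1 hw1) (U'.sub_mem (hinv x hx w2 hw2) hw2))
  rw [cm_le_iff]
  intro x hx v
  exact h3 x hx v Submodule.mem_top

/-- `[V,K^a] = [V,K]` for all `a ∈ A`. -/
theorem MinCE.p7a_cm_eq (h : MinCE 2 ρ A K) (H : KFHyp ρ A) {a : G} (ha : a ∈ A) :
    cm ρ ((cjS a K : Subgroup G) : Set G) = cm ρ (K : Set G) := by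
  by_cases haK : cjS a K = K
  · rw [haK]
  apply le_antisymm
  · have h' := h.conj ha
    have hai : a⁻¹ ∈ A := inv_mem ha
    have e : cjS a⁻¹ (cjS a K) = K := by rw [← cjS_mul, inv_mul_cancel, cjS_one]
    have hne : cjS a⁻¹ (cjS a K) ≠ cjS a K := by
      rw [e]
      exact Ne.symm haK
    have := h'.p7a_cm_le H hai hne
    rwa [e] at this
  · exact h.p7a_cm_le H ha haK

/-- (7a) `V = [V,K]`. -/
theorem MinCE.cm_comp_of (h : MinCE 2 ρ A K) (H : KFHyp ρ A) : cm ρ (K : Set G) = ⊤ := by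
  rw [eq_top_iff, ← h.cm_layer, cm_le_iff]
  intro x hx v
  rw [Set.mem_iUnion₂] at hx
  obtain ⟨a, ha, hxa⟩ := hx
  rw [← h.p7a_cm_eq H ha]
  exact sub_mem_cm hxa v

/-- (7b) -/
theorem MinCE.cV_sup_cV_of (h : MinCE 2 ρ A K) (H : KFHyp ρ A) {t t' : G} (ht : t ∈ A) (ht' : t' ∈ A) (hne : t ≠ t')
    (htK : cjS t K ≠ K) (htK' : cjS t' K ≠ K) : cV ρ {t} ⊔ cV ρ {t'} = ⊤ := by
  have hK := h.comp
  set K' := cjS t K with hK'def
  have hK' : Cfsg.IsComponent K' := comp_cjS hK t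
  have h' : MinCE 2 ρ A K' := h.conj ht
  set S := cV ρ ({t} : Set G) ⊔ cV ρ ({t'} : Set G) with hS
  set H₀ := cmSub ρ S with hH₀
  set c := t' * t⁻¹ with hc
  have hcA : c ∈ A := mul_mem ht' (inv_mem ht)
  have hc1 : c ≠ 1 := by
    intro e
    apply hne
    rw [hc, mul_inv_eq_one] at e
    exact e.symm
  -- the elements `y⁻¹ · c y c⁻¹`, `y ∈ K'`, lie in `H₀`
  have hg : ∀ y ∈ K', y⁻¹ * (c * y * c⁻¹) ∈ H₀ := by
    intro y hy
    rw [hK'def, mem_cjS] at hy
    set x := t⁻¹ * y * t with hx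
    have hn1 : nt 2 t x ∈ H₀ := by
      rw [hH₀, mem_cmSub]
      intro v
      apply Submodule.mem_sup_left
      rw [mem_cV]
      intro s hs
      rw [Set.mem_singleton_iff] at hs
      subst hs
      exact H.dual h ht htK hy v
    have hn2 : nt 2 t' x ∈ H₀ := by
      rw [hH₀, mem_cmSub]
      intro v
      apply Submodule.mem_sup_right
      rw [mem_cV]
      intro s hs
      rw [Set.mem_singleton_iff] at hs
      subst hs
      exact H.dual h ht' htK' hy v
    have e : y⁻¹ * (c * y * c⁻¹) = (nt 2 t x)⁻¹ * nt 2 t' x := by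
      rw [p7a_nt h ht, p7a_nt h ht', hx, hc]
      group
    rw [e]
    exact mul_mem (inv_mem hn1) hn2
  -- `K' ≤ H₀`
  have hK'H : K' ≤ H₀ := by
    by_cases hcK : cjS c K' = K'
    · -- `c` normalizes `K'`
      have hcn : ∀ x ∈ K', c * x * c⁻¹ ∈ K' := by
        intro x hx
        have := conj_mem_cjS (g := c) hx
        rwa [hcK] at this
      have hcz : ∃ x ∈ K', c * x ≠ x * c := by
        by_contra hall
        push Not at hall
        exact hc1 (h'.cent_trivial hcA hall)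
      set N : Subgroup G := Subgroup.closure {n | ∃ x ∈ K', n = c * x * c⁻¹ * x⁻¹} with hN
      have hNK : N ≤ K' := by
        rw [hN, Subgroup.closure_le]
        rintro _ ⟨x, hx, rfl⟩
        exact mul_mem (hcn x hx) (inv_mem hx)
      have hNH : N ≤ H₀ := by
        rw [hN, Subgroup.closure_le]
        rintro _ ⟨x, hx, rfl⟩
        have := inv_mem (hg x⁻¹ (inv_mem hx))
        have e : (x⁻¹⁻¹ * (c * x⁻¹ * c⁻¹))⁻¹ = c * x * c⁻¹ * x⁻¹ := by group
        rw [e] at this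
        exact this
      have hnorm : ∀ z ∈ K', ∀ n ∈ N, z * n * z⁻¹ ∈ N := by
        intro z hz n hn
        have hmap : N ≤ N.comap (MulAut.conj z).toMonoidHom := by
          rw [hN, Subgroup.closure_le]
          rintro _ ⟨x, hx, rfl⟩
          show (MulAut.conj z) (c * x * c⁻¹ * x⁻¹) ∈ Subgroup.closure _
          have e : (MulAut.conj z) (c * x * c⁻¹ * x⁻¹) =
              (c * z * c⁻¹ * z⁻¹)⁻¹ * (c * (z * x) * c⁻¹ * (z * x)⁻¹) := by
            rw [MulAut.conj_apply]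
            group
          rw [e]
          exact mul_mem (inv_mem (Subgroup.subset_closure ⟨z, hz, rfl⟩))
            (Subgroup.subset_closure ⟨z * x, mul_mem hz hx, rfl⟩)
        have := hmap hn
        rw [Subgroup.mem_comap] at this
        exact this
      have hcomm : ∀ x ∈ K', c * x * c⁻¹ * x⁻¹ ∈ N := fun x hx => Subgroup.subset_closure ⟨x, hx, rfl⟩
      have := comp_normal_eq' hK' hNK hnorm hcn hcz hcomm
      rw [← this]
      exact hNH
    · -- `c` moves `K'`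
      have hK'' : Cfsg.IsComponent (cjS c K') := comp_cjS hK' c
      have hcomm : ∀ y ∈ K', ∀ z ∈ cjS c K', y * z = z * y := fun y hy z hz =>
        comp_commute hK' hK'' (Ne.symm hcK) hy hz
      rw [← comp_perfect hK', Subgroup.commutator_le]
      intro y hy w hw
      have e : ⁅y, w⁆ = ((y * w)⁻¹ * (c * (y * w) * c⁻¹))⁻¹ * (y⁻¹ * (c * y * c⁻¹)) * (w⁻¹ * (c * w * c⁻¹)) := by
        have hyb : c * y * c⁻¹ ∈ cjS c K' := conj_mem_cjS hy
        have hwb : c * w * c⁻¹ ∈ cjS c K' := conj_mem_cjS hw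
        set yb := c * y * c⁻¹ with hyb'
        set wb := c * w * c⁻¹ with hwb'
        have e1 : c * (y * w) * c⁻¹ = yb * wb := by rw [hyb', hwb']; group
        rw [e1, commutatorElement_def]
        have c1 : yb * w⁻¹ = w⁻¹ * yb := (hcomm _ (inv_mem hw) _ hyb).symm
        have c2 : (yb * wb) * (y * w * y⁻¹ * w⁻¹) = (y * w * y⁻¹ * w⁻¹) * (yb * wb) :=
          (hcomm _ (mul_mem (mul_mem (mul_mem hy hw) (inv_mem hy)) (inv_mem hw)) _ (mul_mem hyb hwb)).symm
        calc y * w * y⁻¹ * w⁻¹ = (yb * wb)⁻¹ * ((yb * wb) * (y * w * y⁻¹ * w⁻¹)) := by group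
          _ = (yb * wb)⁻¹ * ((y * w * y⁻¹ * w⁻¹) * (yb * wb)) := by rw [c2]
          _ = (yb * wb)⁻¹ * (y * w) * (y⁻¹ * (w⁻¹ * yb) * wb) := by group
          _ = (yb * wb)⁻¹ * (y * w) * (y⁻¹ * (yb * w⁻¹) * wb) := by rw [c1]
          _ = ((y * w)⁻¹ * (yb * wb))⁻¹ * (y⁻¹ * yb) * (w⁻¹ * wb) := by group
      rw [e]
      exact mul_mem (mul_mem (inv_mem (hg _ (mul_mem hy hw))) (hg y hy)) (hg w hw)
  -- conclusion
  rw [eq_top_iff, ← h'.cm_comp_of H, cm_le_iff_le_cmSub]
  exact hK'H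

end two

end Cfsg.Agent.PGV
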