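import Mathlib
import Cfsg.Agent.PGV.Defs
import Cfsg.Agent.PGV.Basic

/-!
# S3086 (the `P(G,V)`-theorem), piece B': `p`-groups and coprime action on `ZMod p`-modules (lead)

* `cmW_ne_self_of_isPGroup`: a `p`-group `A` acting on a non-zero `A`-invariant submodule `W` has `[W, A] ≠ W`;
* `cm_ne_top_of_isPGroup`: the case `W = ⊤`;
* `cmW_cm_of_coprime`: `[V, Y, Y] = [V, Y]` for a subgroup `Y` of order prime to `p`;
* `card_cV_mul_card_cm_singleton`: `|C_V(t)| · |[V, t]| = |V|`;
* `card_sup_mul_card_inf`: `|P + Q| · |P ∩ Q| = |P| · |Q|` for submodules.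
-/

set_option autoImplicit false

namespace Cfsg.Agent.PGV

section modp

variable {p : ℕ} [Fact p.Prime] {G V : Type*} [Group G] [AddCommGroup V] [Module (ZMod p) V]
  (ρ : Representation (ZMod p) G V)

/-- a non-trivial finite `ZMod p`-module has order divisible by `p`. -/
theorem bp_p_dvd_card (M : Type*) [AddCommGroup M] [Module (ZMod p) M] [Finite M] [Nontrivial M] :
    p ∣ Nat.card M := by
  have hfin : Module.Finite (ZMod p) M := Module.Finite.of_finite
  have h := Module.natCard_eq_pow_finrank (K := ZMod p) (V := M)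
  rw [Nat.card_zmod] at h
  have hpos : 0 < Module.finrank (ZMod p) M := Module.finrank_pos
  rw [h]
  exact dvd_pow_self p hpos.ne'

/-- `|P + Q| · |P ∩ Q| = |P| · |Q|`. -/
theorem card_sup_mul_card_inf [Finite V] (P Q : Submodule (ZMod p) V) :
    Nat.card ↥(P ⊔ Q) * Nat.card ↥(P ⊓ Q) = Nat.card ↥P * Nat.card ↥Q := by
  have hfin : Module.Finite (ZMod p) V := Module.Finite.of_finite
  have h := Submodule.finrank_sup_add_finrank_inf_eq P Q
  rw [Module.natCard_eq_pow_finrank (K := ZMod p) (V := ↥(P ⊔ Q)),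
    Module.natCard_eq_pow_finrank (K := ZMod p) (V := ↥(P ⊓ Q)),
    Module.natCard_eq_pow_finrank (K := ZMod p) (V := ↥P),
    Module.natCard_eq_pow_finrank (K := ZMod p) (V := ↥Q), ← pow_add, ← pow_add, h]

/-- `|V| = |C_V(t)| · |[V,t]|`. -/
theorem card_cV_mul_card_cm_singleton [Finite V] (t : G) :
    Nat.card (cV ρ {t}) * Nat.card (cm ρ {t}) = Nat.card V := by
  have hfin : Module.Finite (ZMod p) V := Module.Finite.of_finite
  set f : V →ₗ[ZMod p] V := ρ t - 1 with hf
  have hker : cV ρ {t} = LinearMap.ker f := by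
    ext v
    rw [mem_cV, LinearMap.mem_ker, hf]
    simp only [Set.mem_singleton_iff, forall_eq, LinearMap.sub_apply, Module.End.one_apply, sub_eq_zero]
  have hrange : cm ρ {t} = LinearMap.range f := by
    apply le_antisymm
    · rw [cm_le_iff]
      intro x hx v
      rw [Set.mem_singleton_iff] at hx
      subst hx
      exact ⟨v, by simp [hf]⟩
    · rintro _ ⟨v, rfl⟩
      have : f v = ρ t v - v := by simp [hf]
      rw [this]
      exact sub_mem_cm (Set.mem_singleton t) v
  rw [hker, hrange, Module.natCard_eq_pow_finrank (K := ZMod p) (V := ↥(LinearMap.ker f)),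
    Module.natCard_eq_pow_finrank (K := ZMod p) (V := ↥(LinearMap.range f)),
    Module.natCard_eq_pow_finrank (K := ZMod p) (V := V), ← pow_add, add_comm,
    LinearMap.finrank_range_add_finrank_ker]

/-- coprime action: `[V,Y,Y] = [V,Y]` for a finite subgroup of order prime to `p`. -/
theorem cmW_cm_of_coprime [Finite G] (Y : Subgroup G) (hY : (Nat.card Y).Coprime p) :
    cmW ρ (cm ρ (Y : Set G)) (Y : Set G) = cm ρ (Y : Set G) := by
  classical
  apply le_antisymm (cmW_le_cm ρ _ _)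
  have : Fintype ↥Y := Fintype.ofFinite _
  set U := cmW ρ (cm ρ (Y : Set G)) (Y : Set G) with hU
  rw [cm_le_iff]
  intro x hx v
  set w := ρ x v - v with hw
  have hwcm : w ∈ cm ρ (Y : Set G) := sub_mem_cm hx v
  -- the sum over `Y` kills `w`
  have hsum : ∑ y : ↥Y, ρ (y : G) w = 0 := by
    have h1 : ∑ y : ↥Y, ρ (y : G) (ρ x v) = ∑ y : ↥Y, ρ (y : G) v := by
      have := Equiv.sum_comp (Equiv.mulRight (⟨x, hx⟩ : ↥Y)) (fun y : ↥Y => ρ (y : G) v)
      rw [← this]
      apply Finset.sum_congr rfl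
      intro y _
      simp only [Equiv.coe_mulRight, Subgroup.coe_mul]
      rw [rho_mul_apply]
    rw [hw]
    simp only [map_sub, Finset.sum_sub_distrib, h1, sub_self]
  have hmem : ∑ y : ↥Y, (ρ (y : G) w - w) ∈ U := by
    apply Submodule.sum_mem
    intro y _
    exact sub_mem_cmW y.2 hwcm
  have hcalc : ∑ y : ↥Y, (ρ (y : G) w - w) = -((Nat.card ↥Y : ZMod p) • w) := by
    rw [Finset.sum_sub_distrib, hsum, zero_sub, Finset.sum_const, Finset.card_univ,
      Nat.card_eq_fintype_card, Nat.cast_smul_eq_nsmul]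
  rw [hcalc] at hmem
  have hmem' : (Nat.card ↥Y : ZMod p) • w ∈ U := by
    have := U.neg_mem hmem
    rwa [neg_neg] at this
  have hunit : IsUnit (Nat.card ↥Y : ZMod p) := (ZMod.isUnit_iff_coprime _ _).mpr hY
  obtain ⟨u, hu⟩ := hunit
  have : w = (↑u⁻¹ : ZMod p) • ((Nat.card ↥Y : ZMod p) • w) := by
    rw [← hu, smul_smul, Units.inv_mul, one_smul]
  rw [this]
  exact U.smul_mem _ hmem'

/-- a `p`-group acting on an invariant submodule `W ≠ 0`: `[W, A] ≠ W`. -/
theorem cmW_ne_self_of_isPGroup [Finite G] [Finite V] (A : Subgroup G) (hA : IsPGroup p A)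
    (W : Submodule (ZMod p) V) (hW : ∀ a ∈ A, ∀ w ∈ W, ρ a w ∈ W) (hW0 : W ≠ ⊥) :
    cmW ρ W (A : Set G) ≠ W := by
  classical
  intro heq
  have : Nontrivial ↥W := Submodule.nontrivial_iff_ne_bot.mpr hW0
  let r : ↥A → (↥W →ₗ[ZMod p] ↥W) := fun a =>
    (ρ (a : G)).restrict (fun w hw => hW a a.2 w hw)
  have r_apply : ∀ (a : ↥A) (w : ↥W), ((r a w : ↥W) : V) = ρ (a : G) (w : V) := fun a w => rfl
  have r_one : r 1 = LinearMap.id := by
    ext w
    rw [r_apply]
    simp
  have r_mul : ∀ a b : ↥A, r (a * b) = (r a).comp (r b) := by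
    intro a b
    ext w
    rw [r_apply, LinearMap.comp_apply, r_apply, r_apply, Subgroup.coe_mul, rho_mul_apply]
  let D := Module.Dual (ZMod p) ↥W
  let _ : MulAction ↥A D :=
    { smul := fun a l => l.comp (r a⁻¹)
      one_smul := by
        intro l
        show l.comp (r (1 : ↥A)⁻¹) = l
        rw [inv_one, r_one, LinearMap.comp_id]
      mul_smul := by
        intro a b l
        show l.comp (r (a * b)⁻¹) = (l.comp (r b⁻¹)).comp (r a⁻¹)
        rw [mul_inv_rev, r_mul, LinearMap.comp_assoc] }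
  have smul_def : ∀ (a : ↥A) (l : D), a • l = l.comp (r a⁻¹) := fun a l => rfl
  have : Finite D := DFunLike.finite _
  have : Nontrivial D := by
    obtain ⟨w, hw⟩ := exists_ne (0 : ↥W)
    obtain ⟨f, hf⟩ := Module.Projective.exists_dual_ne_zero (ZMod p) hw
    refine ⟨⟨f, 0, ?_⟩⟩
    intro h
    apply hf
    rw [h]
    rfl
  have hp : p ∣ Nat.card D := bp_p_dvd_card D
  have h0 : (0 : D) ∈ MulAction.fixedPoints ↥A D := by
    intro a
    rw [smul_def]
    exact LinearMap.zero_comp _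
  obtain ⟨l, hl, hl0⟩ := hA.exists_fixed_point_of_prime_dvd_card_of_fixed_point D hp h0
  have hfix : ∀ (a : ↥A) (w : ↥W), l (r a w) = l w := by
    intro a w
    have h1 := hl a⁻¹
    rw [smul_def, inv_inv] at h1
    have := congrArg (fun m : D => m w) h1
    exact this
  apply hl0
  symm
  -- `l` vanishes on `[W, A] = W`
  have key : ∀ v : V, v ∈ cmW ρ W (A : Set G) → ∀ hv : v ∈ W, l ⟨v, hv⟩ = 0 := by
    intro v hv
    unfold cmW at hv
    induction hv using Submodule.span_induction with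
    | mem u hu =>
      obtain ⟨x, hx, w, hw, rfl⟩ := hu
      intro hv
      have e : (⟨ρ x w - w, hv⟩ : ↥W) = r ⟨x, hx⟩ ⟨w, hw⟩ - ⟨w, hw⟩ := by
        apply Subtype.ext
        rfl
      rw [e, map_sub, hfix, sub_self]
    | zero =>
      intro hv
      exact map_zero l
    | add x y hx hy ihx ihy =>
      intro hv
      have hxW : x ∈ W := heq ▸ (show x ∈ cmW ρ W (A : Set G) from hx)
      have hyW : y ∈ W := heq ▸ (show y ∈ cmW ρ W (A : Set G) from hy)
      have e : (⟨x + y, hv⟩ : ↥W) = ⟨x, hxW⟩ + ⟨y, hyW⟩ := rfl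
      rw [e, map_add, ihx hxW, ihy hyW, add_zero]
    | smul c x hx ihx =>
      intro hv
      have hxW : x ∈ W := heq ▸ (show x ∈ cmW ρ W (A : Set G) from hx)
      have e : (⟨c • x, hv⟩ : ↥W) = c • ⟨x, hxW⟩ := rfl
      rw [e, map_smul, ihx hxW, smul_zero]
  ext ⟨w, hw⟩
  rw [LinearMap.zero_apply]
  exact key w (by rw [heq]; exact hw) hw

/-- a `p`-group acting on `V ≠ 0`: `[V, A] ≠ V`. -/
theorem cm_ne_top_of_isPGroup [Finite G] [Finite V] [Nontrivial V] (A : Subgroup G) (hA : IsPGroup p A) :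
    cm ρ (A : Set G) ≠ ⊤ := by
  have h := cmW_ne_self_of_isPGroup ρ A hA ⊤ (fun _ _ _ _ => Submodule.mem_top) top_ne_bot
  exact h

end modp

end Cfsg.Agent.PGV
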