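import Mathlib
import Cfsg.Agent.PGV.Defs
import Cfsg.Agent.PGV.ModP

/-!
# S3086 piece 7c (helper9): a counting lemma over `𝔽₂`, and the existence of a transvection

`exists_hyperplane_of_pairwise_sup`: proper subspaces `W i ⊇ C` of a finite `𝔽₂`-space `V` with pairwise sum `V`
and `|V| ≤ 2·|ι|·|C|`: one of them is a hyperplane.
-/

set_option autoImplicit false

namespace Cfsg.Agent.PGV

section twoC_linalg

variable {V : Type*} [AddCommGroup V] [Finite V] [Module (ZMod 2) V]

open Module in
/-- `|S^⊥| · |S| = |V|` over `𝔽₂`. -/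
theorem twoC_card_dualAnnihilator (S : Submodule (ZMod 2) V) :
    Nat.card S.dualAnnihilator * Nat.card S = Nat.card V := by
  haveI : Fact (Nat.Prime 2) := ⟨Nat.prime_two⟩
  rw [Module.natCard_eq_pow_finrank (K := ZMod 2) (V := S.dualAnnihilator),
    Module.natCard_eq_pow_finrank (K := ZMod 2) (V := S),
    Module.natCard_eq_pow_finrank (K := ZMod 2) (V := V), ← pow_add, add_comm,
    Subspace.finrank_add_finrank_dualAnnihilator_eq]

open Module in
/-- (7c) pure linear algebra over `𝔽₂`. -/
theorem exists_hyperplane_of_pairwise_sup {ι : Type*} [Fintype ι] (C : Submodule (ZMod 2) V)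
    (W : ι → Submodule (ZMod 2) V) (hC : ∀ i, C ≤ W i) (hne : ∀ i, W i ≠ ⊤)
    (hsup : ∀ i j, i ≠ j → W i ⊔ W j = ⊤)
    (hV : Nat.card V ≤ 2 * Fintype.card ι * Nat.card C) : ∃ i, Nat.card V = 2 * Nat.card (W i) := by
  classical
  by_contra hcon
  push Not at hcon
  haveI : Fact (Nat.Prime 2) := ⟨Nat.prime_two⟩
  haveI : Finite (Module.Dual (ZMod 2) V) := Module.finite_of_finite (ZMod 2)
  letI : Fintype (Module.Dual (ZMod 2) V) := Fintype.ofFinite _
  -- the annihilators have at least 4 elements
  have h4 : ∀ i, 4 ≤ Nat.card (W i).dualAnnihilator := by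
    intro i
    have h1 := Subspace.finrank_add_finrank_dualAnnihilator_eq (W i)
    have h2 := Submodule.finrank_lt (hne i)
    have h3 : finrank (ZMod 2) V ≠ finrank (ZMod 2) (W i) + 1 := by
      intro h
      apply hcon i
      rw [Module.natCard_eq_pow_finrank (K := ZMod 2) (V := V),
        Module.natCard_eq_pow_finrank (K := ZMod 2) (V := W i), h, pow_succ, Nat.card_zmod]
      ring
    have h5 : 2 ≤ finrank (ZMod 2) (W i).dualAnnihilator := by omega
    rw [Module.natCard_eq_pow_finrank (K := ZMod 2) (V := (W i).dualAnnihilator), Nat.card_zmod]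
    calc 4 = 2 ^ 2 := by norm_num
      _ ≤ 2 ^ finrank (ZMod 2) (W i).dualAnnihilator := Nat.pow_le_pow_right (by norm_num) h5
  -- the nonzero elements of the annihilators
  set s : ι → Finset (Module.Dual (ZMod 2) V) :=
    fun i => (Finset.univ.filter (fun f => f ∈ (W i).dualAnnihilator)).erase 0 with hs
  set t : Finset (Module.Dual (ZMod 2) V) :=
    (Finset.univ.filter (fun f => f ∈ C.dualAnnihilator)).erase 0 with ht
  have hcardfilter : ∀ S : Submodule (ZMod 2) (Module.Dual (ZMod 2) V),
      (Finset.univ.filter (fun f => f ∈ S)).card = Nat.card S := by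
    intro S
    rw [Nat.card_eq_fintype_card, Fintype.card_subtype]
  have hscard : ∀ i, (s i).card = Nat.card (W i).dualAnnihilator - 1 := by
    intro i
    rw [hs]
    simp only
    rw [Finset.card_erase_of_mem (by simp), hcardfilter]
  have htcard : t.card = Nat.card C.dualAnnihilator - 1 := by
    rw [ht, Finset.card_erase_of_mem (by simp), hcardfilter]
  have hsub : ∀ i, s i ⊆ t := by
    intro i f hf
    rw [hs] at hf
    simp only [Finset.mem_erase, Finset.mem_filter, Finset.mem_univ, true_and] at hf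
    rw [ht]
    simp only [Finset.mem_erase, Finset.mem_filter, Finset.mem_univ, true_and]
    exact ⟨hf.1, Submodule.dualAnnihilator_anti (hC i) hf.2⟩
  have hdisj : ∀ i ∈ (Finset.univ : Finset ι), ∀ j ∈ (Finset.univ : Finset ι), i ≠ j → Disjoint (s i) (s j) := by
    intro i _ j _ hij
    rw [Finset.disjoint_left]
    intro f hfi hfj
    rw [hs] at hfi hfj
    simp only [Finset.mem_erase, Finset.mem_filter, Finset.mem_univ, true_and] at hfi hfj
    have : f ∈ (W i ⊔ W j).dualAnnihilator := by
      rw [Submodule.dualAnnihilator_sup_eq]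
      exact ⟨hfi.2, hfj.2⟩
    rw [hsup i j hij, Submodule.dualAnnihilator_top, Submodule.mem_bot] at this
    exact hfi.1 this
  have hbi : (Finset.univ.biUnion s).card = ∑ i, (s i).card := Finset.card_biUnion hdisj
  have hle : (Finset.univ.biUnion s).card ≤ t.card :=
    Finset.card_le_card (Finset.biUnion_subset.mpr (fun i _ => hsub i))
  have h3 : 3 * Fintype.card ι ≤ ∑ i, (s i).card := by
    calc 3 * Fintype.card ι = ∑ _i : ι, 3 := by simp [mul_comm]
      _ ≤ ∑ i, (s i).card := Finset.sum_le_sum (fun i _ => by rw [hscard]; have := h4 i; omega)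
  have hD := twoC_card_dualAnnihilator C
  have hCpos : 0 < Nat.card C := Nat.card_pos
  have hDpos : 0 < Nat.card C.dualAnnihilator := Nat.card_pos
  have hDle : Nat.card C.dualAnnihilator ≤ 2 * Fintype.card ι := by
    have : Nat.card C.dualAnnihilator * Nat.card C ≤ (2 * Fintype.card ι) * Nat.card C := by
      rw [hD]; exact hV
    exact Nat.le_of_mul_le_mul_right this hCpos
  omega

end twoC_linalg

section twoC_trans

variable {G V : Type*} [Group G] [Finite G] [AddCommGroup V] [Finite V] [Module (ZMod 2) V]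
  {ρ : Representation (ZMod 2) G V} {A K : Subgroup G}

/-- `g K g⁻¹ = K ↔ g ∈ N_G(K)`. -/
theorem twoC_cjS_eq_iff {G : Type*} [Group G] {g : G} {K : Subgroup G} :
    cjS g K = K ↔ g ∈ Subgroup.normalizer (K : Set G) := by
  rw [Subgroup.mem_normalizer_iff_map_conj_eq]
  rfl

/-- a proper divisor is at most half. -/
theorem twoC_two_mul_le {d n : ℕ} (hdvd : d ∣ n) (hne : d ≠ n) (hn : 0 < n) : 2 * d ≤ n := by
  obtain ⟨k, rfl⟩ := hdvd
  have hk0 : k ≠ 0 := by
    rintro rfl
    simp at hn
  have hk1 : k ≠ 1 := by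
    rintro rfl
    simp at hne
  have hk2 : 2 ≤ k := by omega
  calc 2 * d = d * 2 := by ring
    _ ≤ d * k := Nat.mul_le_mul_left d hk2

/-- (7c') some `t ∈ A` moving `K` is a transvection; (7b) `MinCE.cV_sup_cV` enters as the hypothesis `h7b`. -/
theorem MinCE.exists_transvection_of (h : MinCE 2 ρ A K)
    (h7b : ∀ {t t' : G}, t ∈ A → t' ∈ A → t ≠ t' → cjS t K ≠ K → cjS t' K ≠ K →
      cV ρ {t} ⊔ cV ρ {t'} = ⊤) :
    ∃ t ∈ A, cjS t K ≠ K ∧ Nat.card (cm ρ ({t} : Set G)) = 2 := by
  classical
  haveI : Fact (Nat.Prime 2) := ⟨Nat.prime_two⟩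
  have hcard : ∀ t : G, Nat.card (cV ρ {t}) * Nat.card (cm ρ {t}) = Nat.card V :=
    fun t => card_cV_mul_card_cm_singleton ρ t
  letI : Fintype G := Fintype.ofFinite G
  set N : Subgroup G := Subgroup.normalizer (K : Set G) with hN
  -- the index set
  have hcount : Nat.card A ≤ 2 * Fintype.card {a : A // cjS (a : G) K ≠ K} := by
    have hsplit : Nat.card A = Nat.card {a : A // cjS (a : G) K = K} +
        Nat.card {a : A // ¬ cjS (a : G) K = K} := by
      rw [← Nat.card_sum]
      exact Nat.card_congr (Equiv.sumCompl (fun a : A => cjS (a : G) K = K)).symm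
    have hBs : Nat.card {a : A // cjS (a : G) K = K} = Nat.card (N.subgroupOf A) := by
      refine Nat.card_congr (Equiv.subtypeEquivRight (fun a => ?_))
      rw [twoC_cjS_eq_iff, Subgroup.mem_subgroupOf]
    have hdvd : Nat.card (N.subgroupOf A) ∣ Nat.card A := Subgroup.card_subgroup_dvd_card _
    have hne : Nat.card (N.subgroupOf A) ≠ Nat.card A := by
      intro he
      rw [Subgroup.card_eq_iff_eq_top, Subgroup.subgroupOf_eq_top] at he
      exact h.nn he
    have h2 := twoC_two_mul_le hdvd hne Nat.card_pos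
    have : Fintype.card {a : A // cjS (a : G) K ≠ K} = Nat.card {a : A // ¬ cjS (a : G) K = K} := by
      rw [Nat.card_eq_fintype_card]
    omega
  have hoff : Nat.card V ≤ Nat.card A * Nat.card (cV ρ (A : Set G)) := by
    have h0 := h.off ⊥ bot_le
    have e1 : Nat.card {v : V // ∀ b ∈ (⊥ : Subgroup G), ρ b v = v} = Nat.card V := by
      refine Nat.card_congr (Equiv.subtypeUnivEquiv (fun v b hb => ?_))
      rw [Subgroup.mem_bot] at hb
      rw [hb, map_one]
      rfl
    have e2 : Nat.card {v : V // ∀ a ∈ A, ρ a v = v} = Nat.card (cV ρ (A : Set G)) :=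
      Nat.card_congr (Equiv.subtypeEquivRight (fun v => Iff.rfl))
    rw [Subgroup.card_bot, one_mul, e1, e2] at h0
    exact h0
  obtain ⟨i, hi⟩ := exists_hyperplane_of_pairwise_sup (ι := {a : A // cjS (a : G) K ≠ K})
    (cV ρ (A : Set G)) (fun i => cV ρ {(i.1 : G)})
    (fun i v hv x hx => by
      rw [Set.mem_singleton_iff] at hx
      subst hx
      exact hv _ i.1.2)
    (fun i htop => by
      apply i.2
      have h1 : ρ (i.1 : G) = ρ 1 := by
        rw [map_one]
        ext v
        have : v ∈ cV ρ {(i.1 : G)} := by rw [htop]; exact Submodule.mem_top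
        exact this _ rfl
      have h2 : ((i.1 : A) : G) = 1 := h.inj h1
      rw [h2, twoC_cjS_eq_iff]
      exact one_mem _)
    (fun i j hij => h7b i.1.2 j.1.2 (fun he => hij (Subtype.ext (Subtype.ext he))) i.2 j.2)
    (by
      calc Nat.card V ≤ Nat.card A * Nat.card (cV ρ (A : Set G)) := hoff
        _ ≤ (2 * Fintype.card {a : A // cjS (a : G) K ≠ K}) * Nat.card (cV ρ (A : Set G)) :=
          Nat.mul_le_mul_right _ hcount)
  refine ⟨i.1, i.1.2, i.2, ?_⟩
  have h1 := hcard (i.1 : G)
  have hpos : 0 < Nat.card (cV ρ {(i.1 : G)}) := Nat.card_pos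
  have h2 : Nat.card (cV ρ {(i.1 : G)}) * Nat.card (cm ρ {(i.1 : G)}) =
      Nat.card (cV ρ {(i.1 : G)}) * 2 := by
    rw [h1, hi, mul_comm]
  exact Nat.eq_of_mul_eq_mul_left hpos h2

end twoC_trans

end Cfsg.Agent.PGV
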