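import Mathlib
import Cfsg.Agent.PGV.Basic

/-!
# S3086 (the `P(G,V)`-theorem), piece 7d: a transvection cannot move a component (helper5)

`p = 2`, faithful action.  If `t² = 1`, `|[V,t]| = 2` and `K^t ≠ K` for a component `K`, then for `x ∈ K` of odd order the element
`y = (x t x⁻¹) t = x · (t x⁻¹ t)` has odd order and `[V,y]` has at most `4` elements, so `y³ = 1`, so `x³ ∈ K ∩ K^t ≤ Z(K)`:
`K / Z(K)` would be a `{2,3}`-group.  The facts on components enter `no_transvection_moves_of` as hypotheses.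
-/

set_option autoImplicit false

namespace Cfsg.Agent.PGV

section twoD

variable {G V : Type*} [Group G] [Finite G] [AddCommGroup V] [Finite V] [Module (ZMod 2) V]
  {ρ : Representation (ZMod 2) G V} {K : Subgroup G}

theorem p7d_add_self (v : V) : v + v = 0 := by
  have h : (2 : ZMod 2) • v = 0 := by
    rw [show (2 : ZMod 2) = 0 from rfl, zero_smul]
  rwa [two_smul] at h

theorem p7d_neg (v : V) : -v = v := by
  have h := p7d_add_self v
  exact neg_eq_of_add_eq_zero_left h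

/-- `[V,t]` of order two: all commutators `t v - v` are `0` or one fixed vector. -/
theorem p7d_exists_w {t : G} (htr : Nat.card (cm ρ ({t} : Set G)) = 2) :
    ∃ w : V, ∀ v : V, ρ t v - v = 0 ∨ ρ t v - v = w := by
  obtain ⟨b, hb, hbu⟩ := (Nat.card_eq_two_iff' (0 : ↥(cm ρ ({t} : Set G)))).mp htr
  refine ⟨b, fun v => ?_⟩
  have hmem : ρ t v - v ∈ cm ρ ({t} : Set G) := sub_mem_cm (Set.mem_singleton t) v
  by_cases h0 : ρ t v - v = 0
  · exact Or.inl h0
  · right
    have hne : (⟨ρ t v - v, hmem⟩ : ↥(cm ρ ({t} : Set G))) ≠ 0 := by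
      intro e
      exact h0 (congrArg Subtype.val e)
    have := hbu _ hne
    exact congrArg Subtype.val this

theorem p7d_card_span_pair (w w' : V) : Nat.card (Submodule.span (ZMod 2) ({w, w'} : Set V)) ≤ 4 := by
  let f : ZMod 2 × ZMod 2 → Submodule.span (ZMod 2) ({w, w'} : Set V) := fun ab =>
    ⟨ab.1 • w + ab.2 • w', Submodule.mem_span_pair.mpr ⟨ab.1, ab.2, rfl⟩⟩
  have hf : Function.Surjective f := by
    rintro ⟨u, hu⟩
    obtain ⟨a, b, rfl⟩ := Submodule.mem_span_pair.mp hu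
    exact ⟨(a, b), rfl⟩
  have h := Nat.card_le_card_of_surjective f hf
  have h4 : Nat.card (ZMod 2 × ZMod 2) = 4 := by
    rw [Nat.card_prod, Nat.card_zmod]
  rwa [h4] at h

/-- an element of odd order with `|[V,y]| ≤ 4` has `y³ = 1` (faithful action in characteristic `2`). -/
theorem p7d_cube_of_small (hρ : Function.Injective ρ) (y : G) (hodd : Odd (orderOf y))
    (U : Submodule (ZMod 2) V) (hU : Nat.card U ≤ 4) (hy : ∀ v, ρ y v - v ∈ U) : y ^ 3 = 1 := by
  classical
  let D : Submodule (ZMod 2) V := LinearMap.range (ρ y - 1)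
  have hDU : D ≤ U := by
    rintro _ ⟨v, rfl⟩
    rw [LinearMap.sub_apply, Module.End.one_apply]
    exact hy v
  have hDcard : Nat.card D ≤ 4 :=
    le_trans (Nat.card_le_card_of_injective (Submodule.inclusion hDU)
      (Submodule.inclusion_injective hDU)) hU
  have hDinv : ∀ d ∈ D, ρ y d ∈ D := by
    rintro _ ⟨v, rfl⟩
    refine ⟨ρ y v, ?_⟩
    rw [LinearMap.sub_apply, Module.End.one_apply, LinearMap.sub_apply, Module.End.one_apply, map_sub]
  haveI : Fintype D := Fintype.ofFinite D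
  let f : D → D := fun d => ⟨ρ y d, hDinv d d.2⟩
  have hf : Function.Injective f := by
    intro a b h
    have h' : ρ y a = ρ y b := congrArg Subtype.val h
    apply Subtype.ext
    have := congrArg (ρ y⁻¹) h'
    rwa [rho_inv_apply, rho_inv_apply] at this
  let σ : Equiv.Perm D := Equiv.ofBijective f (Finite.injective_iff_bijective.mp hf)
  have hσ1 : ∀ d : D, ((σ d : D) : V) = ρ y d := fun d => rfl
  have hσ : ∀ (n : ℕ) (d : D), (((σ ^ n) d : D) : V) = ρ (y ^ n) d := by
    intro n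
    induction n with
    | zero =>
      intro d
      rw [pow_zero, pow_zero, rho_one_apply, Equiv.Perm.one_apply]
    | succ n ih =>
      intro d
      rw [pow_succ, Equiv.Perm.mul_apply, ih, pow_succ, rho_mul_apply, hσ1]
  have h24 : orderOf σ ∣ 8 * 3 := by
    have h1 : orderOf σ ∣ Fintype.card (Equiv.Perm D) := orderOf_dvd_card
    rw [Fintype.card_perm] at h1
    have h2 : Fintype.card D ≤ 4 := by
      rw [← Nat.card_eq_fintype_card]
      exact hDcard
    have h3 : (Fintype.card D).factorial ∣ (4).factorial := Nat.factorial_dvd_factorial h2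
    exact h1.trans h3
  have hoy : orderOf σ ∣ orderOf y := by
    apply orderOf_dvd_of_pow_eq_one
    ext d
    rw [hσ, pow_orderOf_eq_one, rho_one_apply, Equiv.Perm.one_apply]
  have hoddσ : Odd (orderOf σ) := hodd.of_dvd_nat hoy
  have h3 : orderOf σ ∣ 3 := by
    have hc : Nat.Coprime (orderOf σ) 8 := by
      have : Nat.Coprime (orderOf σ) 2 := Nat.coprime_two_right.mpr hoddσ
      exact Nat.Coprime.pow_right 3 this
    have h24' : orderOf σ ∣ 3 * 8 := by rwa [mul_comm] at h24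
    exact hc.dvd_of_dvd_mul_right h24'
  have hσ3 : σ ^ 3 = 1 := orderOf_dvd_iff_pow_eq_one.mp h3
  have hD3 : ∀ d ∈ D, ρ (y ^ 3) d = d := by
    intro d hd
    have := hσ 3 ⟨d, hd⟩
    rw [hσ3, Equiv.Perm.one_apply] at this
    exact this.symm
  have hy6 : ∀ v : V, ρ (y ^ 6) v = v := by
    intro v
    have a1 : ρ y (ρ (y ^ 2) v) = ρ (y ^ 3) v := by
      rw [← rho_mul_apply, ← pow_succ' y 2]
    have a2 : ρ y (ρ y v) = ρ (y ^ 2) v := by
      rw [← rho_mul_apply, ← pow_two]
    have hmem : ρ (y ^ 3) v - v ∈ D := by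
      refine ⟨ρ (y ^ 2) v + ρ y v + v, ?_⟩
      rw [LinearMap.sub_apply, Module.End.one_apply, map_add, map_add, a1, a2]
      abel
    have e := hD3 _ hmem
    rw [map_sub, ← rho_mul_apply, ← pow_add] at e
    have e2 : ρ (y ^ 6) v = ρ (y ^ 3) v + ρ (y ^ 3) v - v := by
      have : ρ (y ^ (3 + 3)) v = ρ (y ^ 3) v - v + ρ (y ^ 3) v := sub_eq_iff_eq_add.mp e
      rw [show (6 : ℕ) = 3 + 3 from rfl, this]
      abel
    rw [e2, p7d_add_self, zero_sub, p7d_neg]
  have h6 : y ^ 6 = 1 := by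
    apply hρ
    ext v
    rw [hy6 v, map_one]
    rfl
  have ho6 : orderOf y ∣ 3 * 2 := orderOf_dvd_of_pow_eq_one h6
  have ho3 : orderOf y ∣ 3 :=
    (Nat.coprime_two_right.mpr hodd).dvd_of_dvd_mul_right ho6
  exact orderOf_dvd_iff_pow_eq_one.mp ho3

/-- **(7d) no transvection moves a component**, with the facts on components as hypotheses:
`hcomm`: `K` and `K^t` commute elementwise; `hoddx`: some `x ∈ K` of odd order has `x³ ∉ Z(K)`. -/
theorem no_transvection_moves_of (hρ : Function.Injective ρ) {t : G} (ht2 : t * t = 1)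
    (hcomm : ∀ x ∈ K, ∀ z ∈ cjS t K, x * z = z * x)
    (hoddx : ∃ x ∈ K, Odd (orderOf x) ∧ ∃ y ∈ K, x ^ 3 * y ≠ y * x ^ 3)
    (htr : Nat.card (cm ρ ({t} : Set G)) = 2) : False := by
  obtain ⟨x, hxK, hxodd, k, hkK, hk⟩ := hoddx
  obtain ⟨w, hw⟩ := p7d_exists_w htr
  have htinv : t⁻¹ = t := inv_eq_of_mul_eq_one_right ht2
  -- z = t x⁻¹ t ∈ K^t
  have hz : t * x⁻¹ * t ∈ cjS t K := by
    rw [mem_cjS]
    have e : t⁻¹ * (t * x⁻¹ * t) * t = x⁻¹ := by
      rw [htinv]
      calc t * (t * x⁻¹ * t) * t = (t * t) * x⁻¹ * (t * t) := by simp only [mul_assoc]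
        _ = x⁻¹ := by rw [ht2, one_mul, mul_one]
    rw [e]
    exact inv_mem hxK
  have hxz : Commute x (t * x⁻¹ * t) := hcomm x hxK _ hz
  -- y = x z has odd order
  have hzr : (t * x⁻¹ * t) ^ orderOf x = 1 := by
    have e : t * x⁻¹ * t = t * x⁻¹ * t⁻¹ := by rw [htinv]
    rw [e, conj_pow, inv_pow, pow_orderOf_eq_one, inv_one, mul_one, mul_inv_cancel]
  have hyr : (x * (t * x⁻¹ * t)) ^ orderOf x = 1 := by
    rw [hxz.mul_pow, pow_orderOf_eq_one, hzr, one_mul]
  have hyodd : Odd (orderOf (x * (t * x⁻¹ * t))) :=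
    hxodd.of_dvd_nat (orderOf_dvd_of_pow_eq_one hyr)
  -- `[V, y]` is small
  have hU : ∀ v : V, ρ (x * (t * x⁻¹ * t)) v - v ∈ Submodule.span (ZMod 2) ({w, ρ x w} : Set V) := by
    intro v
    have e : ρ (x * (t * x⁻¹ * t)) v - v =
        ρ x (ρ t (ρ x⁻¹ (ρ t v)) - ρ x⁻¹ (ρ t v)) + (ρ t v - v) := by
      rw [map_sub, rho_apply_inv]
      have : ρ (x * (t * x⁻¹ * t)) v = ρ x (ρ t (ρ x⁻¹ (ρ t v))) := by
        rw [rho_mul_apply, rho_mul_apply, rho_mul_apply]
      rw [this]
      abel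
    rw [e]
    apply Submodule.add_mem
    · rcases hw (ρ x⁻¹ (ρ t v)) with h0 | h1
      · rw [h0, map_zero]
        exact Submodule.zero_mem _
      · rw [h1]
        exact Submodule.subset_span (by simp)
    · rcases hw v with h0 | h1
      · rw [h0]
        exact Submodule.zero_mem _
      · rw [h1]
        exact Submodule.subset_span (by simp)
  have hy3 := p7d_cube_of_small hρ _ hyodd _ (p7d_card_span_pair w (ρ x w)) hU
  -- x³ = z⁻³ ∈ K^t commutes with K
  rw [hxz.mul_pow] at hy3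
  have hx3 : x ^ 3 = ((t * x⁻¹ * t) ^ 3)⁻¹ := eq_inv_of_mul_eq_one_left hy3
  have hx3mem : x ^ 3 ∈ cjS t K := by
    rw [hx3]
    exact inv_mem (pow_mem hz 3)
  exact hk ((hcomm k hkK _ hx3mem).symm)

end twoD

end Cfsg.Agent.PGV
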