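import Mathlib
import Cfsg.Agent.PGV.TwoD
import Cfsg.Agent.PGV.Comp

/-!
# S3086 (the `P(G,V)`-theorem), piece 7d: `no_transvection_moves` (helper5)

The stub of `notes/S3086_stubs_helper2.lean.txt`, from `no_transvection_moves_of` (`TwoD.lean`) and the facts on components
of `Comp.lean`.
-/

set_option autoImplicit false

namespace Cfsg.Agent.PGV

/-- **(7d) no transvection moves a component.** -/
theorem no_transvection_moves {G V : Type*} [Group G] [Finite G] [AddCommGroup V] [Finite V]
    [Module (ZMod 2) V] {ρ : Representation (ZMod 2) G V} {K : Subgroup G}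
    (hρ : Function.Injective ρ) (hK : Cfsg.IsComponent K) {t : G} (ht2 : t * t = 1)
    (htK : cjS t K ≠ K) (htr : Nat.card (cm ρ ({t} : Set G)) = 2) : False :=
  no_transvection_moves_of hρ ht2
    (fun x hx z hz => comp_commute hK (comp_cjS hK t) (Ne.symm htK) hx hz)
    (comp_exists_odd hK) htr

end Cfsg.Agent.PGV
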