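import Mathlib
import Cfsg.Agent.PGV.Main
import Cfsg.Agent.PGV.Odd2
import Cfsg.Agent.PGV.TwoA
import Cfsg.Agent.PGV.TwoC
import Cfsg.Agent.PGV.TwoD2

/-!
# S3086 (the `P(G,V)`-theorem): the theorem from the Key Fact alone (helper2)
-/

set_option autoImplicit false

namespace Cfsg.Agent.PGV

universe u v

/-- the Key Fact for all minimal-counterexample configurations in the universes `u`, `v`. -/
def KeyFactAll (p : ℕ) [Fact p.Prime] : Prop :=
  ∀ {G : Type u} {V : Type v} [Group G] [Finite G] [AddCommGroup V] [Finite V] [Module (ZMod p) V]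
    (ρ : Representation (ZMod p) G V) (A K : Subgroup G), MinCE p ρ A K → ∀ t ∈ A, cjS t K ≠ K →
    ∀ x ∈ K, ∀ v : V, ρ (nt p t x) (ρ t v - v) = ρ t v - v

/-- no minimal counterexample for `p = 2`, given the Key Fact. -/
theorem fin_false_of_two {G V : Type*} [Group G] [Finite G] [AddCommGroup V] [Finite V] [Module (ZMod 2) V]
    {ρ : Representation (ZMod 2) G V} {A K : Subgroup G} (h : MinCE 2 ρ A K) (H : KFHyp ρ A) : False := by
  obtain ⟨t, ht, htK, htr⟩ :=
    h.exists_transvection_of (fun ht ht' hne hK hK' => h.cV_sup_cV_of H ht ht' hne hK hK')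
  have ht2 : t * t = 1 := by
    have := h.pow_eq_one ht
    rwa [pow_two] at this
  exact no_transvection_moves h.inj h.comp ht2 htK htr

/-- the dual form of the Key Fact. -/
theorem fin_keyFact' {p : ℕ} [Fact p.Prime] {G V : Type*} [Group G] [Finite G] [AddCommGroup V] [Finite V]
    [Module (ZMod p) V] {ρ : Representation (ZMod p) G V} {A K : Subgroup G} (h : MinCE p ρ A K) {t : G}
    (ht : t ∈ A) (htK : cjS t K ≠ K) {x : G} (hx : x ∈ K)
    (hKF : ∀ v : V, ρ (nt p t x) (ρ t v - v) = ρ t v - v) (v : V) :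
    ρ t (ρ (nt p t x) v - v) = ρ (nt p t x) v - v :=
  fix_sub_of_commute ρ (nt_comm_t h.comp (h.pow_eq_one ht) htK hx).symm (hKF v)

/-- **the `P(G,V)`-theorem from the Key Fact.** -/
theorem pgv_of_keyFact (p : ℕ) [Fact p.Prime] (hKF : KeyFactAll.{u, v} p) : ∀ N : ℕ, PGVBelow.{u, v} p N := by
  apply pgv_main_of p
  intro G V _ _ _ _ _ ρ A K h
  by_cases hp2 : p = 2
  · subst hp2
    exact fin_false_of_two h (fun K' h' t ht htK x hx v => hKF ρ A K' h' t ht htK x hx v)
  · exact h.false_of_odd_of hp2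
      (fun {t} ht htK {x} hx v => fin_keyFact' h ht htK hx (fun v => hKF ρ A K h t ht htK x hx v) v)

end Cfsg.Agent.PGV
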