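import Mathlib
import Cfsg.Agent.PGV.Basic
import Cfsg.Agent.PGV.ModP
import Cfsg.Agent.PGV.Comp
import Cfsg.Agent.PGV.Norm

/-!
# S3086 (the `P(G,V)`-theorem), piece KF, core (helper4)

The Key Fact of `notes/S3086_proof_helper2.md` §2: in a minimal counterexample, for `t ∈ A` moving the component `K` and
`x ∈ K`, the norm `N_t(x) = (x t)^p` centralizes `[V, t]`.

This file: the kernel `kfR` of the action of `K` on `[V,t]` through `N_t`, the three sub-cases, and
`MinCE.keyFact_of` with the inputs of pieces T (`timmesfeld_mod`) and S3 (`MinCE.cent_trivial`) as hypotheses.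
The stub-verbatim wrappers are in `PGV/KeyFact.lean`.
-/

set_option autoImplicit false

namespace Cfsg.Agent.PGV

open scoped commutatorElement

/-! ### generalities -/

section gen

variable {k G V : Type*} [CommRing k] [Group G] [AddCommGroup V] [Module k V] (ρ : Representation k G V)

/-- `[V,t]` is invariant under everything commuting with `t`. -/
theorem kf_comm_inv {g t : G} (hg : g * t = t * g) {w : V} (hw : w ∈ cm ρ ({t} : Set G)) :
    ρ g w ∈ cm ρ ({t} : Set G) := by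
  refine map_mem_cm_of_normalizes ρ g {t} ?_ hw
  intro x hx
  rw [Set.mem_singleton_iff] at hx
  subst hx
  rw [Set.mem_singleton_iff, hg]
  group

/-- if `ρ c w = w` then `ρ c⁻¹ w = w`. -/
theorem kf_inv_fix {c : G} {w : V} (h : ρ c w = w) : ρ c⁻¹ w = w := by
  have := rho_inv_apply ρ c w
  rwa [h] at this

end gen

/-! ### two commuting endomorphisms of a module with at most `p` elements -/

section small

variable {p : ℕ} [hp : Fact p.Prime] {V : Type*} [AddCommGroup V] [Module (ZMod p) V]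

theorem kf_small_comm [Finite V] {W : Submodule (ZMod p) V} (hW : Nat.card W ≤ p) (f g : V →ₗ[ZMod p] V)
    (hf : ∀ w ∈ W, f w ∈ W) (hg : ∀ w ∈ W, g w ∈ W) : ∀ w ∈ W, f (g w) = g (f w) := by
  by_cases h0 : ∀ w ∈ W, w = 0
  · intro w hw
    rw [h0 w hw, map_zero, map_zero, map_zero]
  · push Not at h0
    obtain ⟨w0, hw0, hne⟩ := h0
    -- every element of `W` is a multiple of `w0`
    have hspan : ∀ w ∈ W, ∃ a : ZMod p, w = a • w0 := by
      let φ : ZMod p → W := fun a => ⟨a • w0, W.smul_mem a hw0⟩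
      have hinj : Function.Injective φ := by
        intro a b hab
        have h1 : a • w0 = b • w0 := congrArg Subtype.val hab
        have h2 : (a - b) • w0 = 0 := by rw [sub_smul, h1, sub_self]
        rcases smul_eq_zero.mp h2 with h3 | h3
        · exact sub_eq_zero.mp h3
        · exact absurd h3 hne
      have hcard : Nat.card W ≤ Nat.card (ZMod p) := by
        rw [Nat.card_zmod]
        exact hW
      have hbij := hinj.bijective_of_nat_card_le hcard
      intro w hw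
      obtain ⟨a, ha⟩ := hbij.2 ⟨w, hw⟩
      exact ⟨a, (congrArg Subtype.val ha).symm⟩
    obtain ⟨a, ha⟩ := hspan _ (hf w0 hw0)
    obtain ⟨b, hb⟩ := hspan _ (hg w0 hw0)
    intro w hw
    obtain ⟨c, rfl⟩ := hspan w hw
    rw [map_smul, map_smul, map_smul, map_smul, hb, ha, map_smul, map_smul, ha, hb, smul_comm a b]

end small

/-! ### the kernel of `K → GL([V,t])`, `x ↦ N_t(x)` -/

section core

variable {p : ℕ} [hp : Fact p.Prime] {G V : Type*} [Group G] [AddCommGroup V] [Module (ZMod p) V]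
  (ρ : Representation (ZMod p) G V) {K : Subgroup G} (hK : Cfsg.IsComponent K) {t : G} (htp : t ^ p = 1)
  (htK : cjS t K ≠ K)

include hK htp htK

/-- `N_t(x)` preserves `[V,t]`. -/
theorem kf_nt_inv {x : G} (hx : x ∈ K) {w : V} (hw : w ∈ cm ρ ({t} : Set G)) :
    ρ (nt p t x) w ∈ cm ρ ({t} : Set G) :=
  kf_comm_inv ρ (nt_comm_t hK htp htK hx) hw

/-- the elements of `K` whose norm centralizes `[V,t]`. -/
def kfR : Subgroup G where
  carrier := {g | g ∈ K ∧ ∀ w ∈ cm ρ ({t} : Set G), ρ (nt p t g) w = w}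
  one_mem' := ⟨K.one_mem, fun w _ => by rw [nt_one htp, rho_one_apply]⟩
  mul_mem' := by
    rintro a b ⟨ha, ha2⟩ ⟨hb, hb2⟩
    refine ⟨K.mul_mem ha hb, fun w hw => ?_⟩
    rw [nt_mul hK htp htK ha hb, rho_mul_apply, hb2 w hw, ha2 w hw]
  inv_mem' := by
    rintro a ⟨ha, ha2⟩
    refine ⟨K.inv_mem ha, fun w hw => ?_⟩
    rw [nt_inv hK htp htK ha]
    exact kf_inv_fix ρ (ha2 w hw)

theorem mem_kfR {g : G} :
    g ∈ kfR ρ hK htp htK ↔ g ∈ K ∧ ∀ w ∈ cm ρ ({t} : Set G), ρ (nt p t g) w = w := Iff.rfl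

theorem kfR_le : kfR ρ hK htp htK ≤ K := fun _ h => h.1

/-- `kfR` is normalized by `K`. -/
theorem kfR_normal {y : G} (hy : y ∈ K) {g : G} (hg : g ∈ kfR ρ hK htp htK) :
    y * g * y⁻¹ ∈ kfR ρ hK htp htK := by
  obtain ⟨hgK, hg2⟩ := hg
  refine ⟨K.mul_mem (K.mul_mem hy hgK) (K.inv_mem hy), fun w hw => ?_⟩
  rw [nt_mul hK htp htK (K.mul_mem hy hgK) (K.inv_mem hy), nt_mul hK htp htK hy hgK, rho_mul_apply,
    rho_mul_apply, hg2 _ (kf_nt_inv ρ hK htp htK (K.inv_mem hy) hw), ← rho_mul_apply,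
    ← nt_mul hK htp htK hy (K.inv_mem hy), mul_inv_cancel, nt_one htp, rho_one_apply]

/-- if the norms act on `[V,t]` through an abelian group then they act trivially (`K` is perfect). -/
theorem kf_of_abelian
    (hab : ∀ x ∈ K, ∀ y ∈ K, ∀ w ∈ cm ρ ({t} : Set G),
      ρ (nt p t x) (ρ (nt p t y) w) = ρ (nt p t y) (ρ (nt p t x) w)) :
    K ≤ kfR ρ hK htp htK := by
  have hT : ⁅K, K⁆ ≤ kfR ρ hK htp htK := by
    rw [Subgroup.commutator_le]
    intro x hx y hy
    have hxi := K.inv_mem hx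
    have hyi := K.inv_mem hy
    refine ⟨?_, fun w hw => ?_⟩
    · rw [commutatorElement_def]
      exact K.mul_mem (K.mul_mem (K.mul_mem hx hy) hxi) hyi
    · rw [commutatorElement_def, nt_mul hK htp htK (K.mul_mem (K.mul_mem hx hy) hxi) hyi,
        nt_mul hK htp htK (K.mul_mem hx hy) hxi, nt_mul hK htp htK hx hy, rho_mul_apply, rho_mul_apply,
        rho_mul_apply]
      set w' := ρ (nt p t x⁻¹) (ρ (nt p t y⁻¹) w) with hw'
      have hw'W : w' ∈ cm ρ ({t} : Set G) :=
        kf_nt_inv ρ hK htp htK hxi (kf_nt_inv ρ hK htp htK hyi hw)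
      rw [hab x hx y hy w' hw'W, hw', ← rho_mul_apply ρ (nt p t x), ← nt_mul hK htp htK hx hxi, mul_inv_cancel,
        nt_one htp, rho_one_apply, ← rho_mul_apply ρ (nt p t y), ← nt_mul hK htp htK hy hyi, mul_inv_cancel,
        nt_one htp, rho_one_apply]
  rwa [comp_perfect hK] at hT

/-- if `c` commutes with `t` and centralizes `[V,t]` then `N_t(x^c)` and `N_t(x)` agree on `[V,t]`. -/
theorem kf_conj_agree {c : G} (hct : c * t = t * c) (hcW : ∀ w ∈ cm ρ ({t} : Set G), ρ c w = w) {x : G}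
    (hx : x ∈ K) {w : V} (hw : w ∈ cm ρ ({t} : Set G)) :
    ρ (nt p t (c * x * c⁻¹)) w = ρ (nt p t x) w := by
  rw [← nt_conj_of_commute hct, rho_mul_apply, rho_mul_apply, kf_inv_fix ρ (hcW w hw),
    hcW _ (kf_nt_inv ρ hK htp htK hx hw)]

/-- **case (i)**: some `c` commuting with `t`, centralizing `[V,t]`, normalizing but not centralizing `K`. -/
theorem kf_case_i {c : G} (hct : c * t = t * c) (hcW : ∀ w ∈ cm ρ ({t} : Set G), ρ c w = w)
    (hc : ∀ x ∈ K, c * x * c⁻¹ ∈ K) (hcz : ∃ x ∈ K, c * x ≠ x * c) : K ≤ kfR ρ hK htp htK := by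
  have hN : kfR ρ hK htp htK = K := by
    refine comp_normal_eq' hK (kfR_le ρ hK htp htK) (fun y hy g hg => kfR_normal ρ hK htp htK hy hg) hc hcz ?_
    intro x hx
    have hxi := K.inv_mem hx
    refine ⟨K.mul_mem (hc x hx) hxi, fun w hw => ?_⟩
    rw [nt_mul hK htp htK (hc x hx) hxi, rho_mul_apply,
      kf_conj_agree ρ hK htp htK hct hcW hx (kf_nt_inv ρ hK htp htK hxi hw), ← rho_mul_apply,
      ← nt_mul hK htp htK hx hxi, mul_inv_cancel, nt_one htp, rho_one_apply]
  exact hN.ge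

/-- **case (ii)**: some `c` commuting with `t`, centralizing `[V,t]`, with `K^c` outside the `⟨t⟩`-orbit of `K`. -/
theorem kf_case_ii {c : G} (hct : c * t = t * c) (hcW : ∀ w ∈ cm ρ ({t} : Set G), ρ c w = w)
    (hne : ∀ i j : ℕ, cjS (t ^ i) (cjS c K) ≠ cjS (t ^ j) K) : K ≤ kfR ρ hK htp htK := by
  refine kf_of_abelian ρ hK htp htK ?_
  intro x hx y hy w hw
  have hcomm : nt p t x * nt p t (c * y * c⁻¹) = nt p t (c * y * c⁻¹) * nt p t x :=
    nt_commute hK htp htK (comp_cjS hK c) hne hx (conj_mem_cjS hy)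
  rw [← kf_conj_agree ρ hK htp htK hct hcW hy hw, ← rho_mul_apply, hcomm, rho_mul_apply,
    kf_conj_agree ρ hK htp htK hct hcW hy (kf_nt_inv ρ hK htp htK hx hw)]

/-- **the small case**: `|[V,t]| ≤ p`. -/
theorem kf_case_small [Finite V] (hsm : Nat.card (cm ρ ({t} : Set G)) ≤ p) : K ≤ kfR ρ hK htp htK := by
  refine kf_of_abelian ρ hK htp htK ?_
  intro x hx y hy w hw
  exact kf_small_comm hsm (ρ (nt p t x)) (ρ (nt p t y)) (fun w hw => kf_nt_inv ρ hK htp htK hx hw)
    (fun w hw => kf_nt_inv ρ hK htp htK hy hw) w hw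

end core

/-! ### the Key Fact, with pieces T and S3 as hypotheses -/

section kf

variable {p : ℕ} [hp : Fact p.Prime] {G V : Type*} [Group G] [Finite G] [AddCommGroup V] [Finite V]
  [Module (ZMod p) V] {ρ : Representation (ZMod p) G V} {A K : Subgroup G}

omit [Finite G] [Finite V] in
/-- `[V, ⊥] = 0`. -/
theorem kf_cm_bot (ρ : Representation (ZMod p) G V) : cm ρ ((⊥ : Subgroup G) : Set G) = ⊥ := by
  rw [eq_bot_iff, cm_le_iff]
  intro x hx v
  have hx1 : x = 1 := Subgroup.mem_bot.mp hx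
  rw [hx1, rho_one_apply, sub_self]
  exact Submodule.zero_mem _

/-- **Key Fact** with the Timmesfeld replacement (piece T) and `C_A(K) = 1` (piece S3) as hypotheses. -/
theorem MinCE.keyFact_of (h : MinCE p ρ A K)
    (hcent : ∀ c ∈ A, (∀ x ∈ K, c * x = x * c) → c = 1)
    (hT : ∃ A' : Subgroup G, A' ≤ A ∧ IsPOff ρ A' ∧ (∀ a ∈ A', ∀ w ∈ cm ρ (A : Set G), ρ a w = w) ∧
      (∀ a ∈ A, (∀ w ∈ cm ρ (A : Set G), ρ a w = w) → a ∈ A') ∧
      (cm ρ (A : Set G) ≠ ⊥ → cm ρ (A' : Set G) ≠ ⊥))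
    {t : G} (ht : t ∈ A) (htK : cjS t K ≠ K) {x : G} (hx : x ∈ K) (v : V) :
    ρ (nt p t x) (ρ t v - v) = ρ t v - v := by
  have hK := h.comp
  have htp : t ^ p = 1 := h.el.2 t ht
  have hcomm : ∀ a ∈ A, ∀ b ∈ A, a * b = b * a := fun a ha b hb =>
    congrArg Subtype.val (h.el.1.is_comm.comm ⟨a, ha⟩ ⟨b, hb⟩)
  suffices hsuff : K ≤ kfR ρ hK htp htK from
    (hsuff hx).2 (ρ t v - v) (sub_mem_cm (Set.mem_singleton t) v)
  obtain ⟨A', hA'A, hoff', hcen', hmem', hne'⟩ := hT
  have hWA : cm ρ ({t} : Set G) ≤ cm ρ (A : Set G) := cm_mono ρ (Set.singleton_subset_iff.mpr ht)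
  -- case (i), packaged
  have hI : ∀ c ∈ A, c ≠ 1 → cjS c K = K → (∀ w ∈ cm ρ (A : Set G), ρ c w = w) → K ≤ kfR ρ hK htp htK := by
    intro c hcA hc1 hcK hcW
    refine kf_case_i ρ hK htp htK (hcomm c hcA t ht) (fun w hw => hcW w (hWA hw)) ?_ ?_
    · intro y hy
      have := conj_mem_cjS (g := c) hy
      rwa [hcK] at this
    · by_contra hcon
      push Not at hcon
      exact hc1 (hcent c hcA hcon)
  -- `[V,A] ≠ 0`
  have ht1 : t ≠ 1 := by
    rintro rfl
    exact htK (cjS_one K)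
  have hVA : cm ρ (A : Set G) ≠ ⊥ := by
    intro hbot
    apply ht1
    apply h.inj
    rw [map_one]
    ext u
    have hu : ρ t u - u ∈ cm ρ (A : Set G) := sub_mem_cm ht u
    rw [hbot, Submodule.mem_bot] at hu
    rw [sub_eq_zero.mp hu]
    rfl
  have hA'bot : A' ≠ ⊥ := by
    intro hb
    apply hne' hVA
    rw [hb]
    exact kf_cm_bot ρ
  by_cases hAA : A' = A
  · -- `A` is quadratic
    subst hAA
    by_cases hB : ∃ c ∈ A', c ≠ 1 ∧ cjS c K = K
    · obtain ⟨c, hcA, hc1, hcK⟩ := hB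
      exact hI c hcA hc1 hcK (hcen' c hcA)
    · push Not at hB
      by_cases hC : ∃ c ∈ A', c ∉ Subgroup.zpowers t
      · obtain ⟨c, hcA, hcz⟩ := hC
        refine kf_case_ii ρ hK htp htK (hcomm c hcA t ht) (fun w hw => hcen' c hcA w (hWA hw)) ?_
        intro i j heq
        apply hcz
        -- `d := (t^j)⁻¹ t^i c` normalizes `K`, so `d = 1`
        have hd : cjS ((t ^ j)⁻¹ * (t ^ i * c)) K = K := by
          rw [cjS_mul, cjS_mul, heq, ← cjS_mul, inv_mul_cancel, cjS_one]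
        have hdA : (t ^ j)⁻¹ * (t ^ i * c) ∈ A' :=
          A'.mul_mem (A'.inv_mem (A'.pow_mem ht j)) (A'.mul_mem (A'.pow_mem ht i) hcA)
        have hd1 : (t ^ j)⁻¹ * (t ^ i * c) = 1 := by
          by_contra hne
          exact hB _ hdA hne hd
        have hc : c = (t ^ i)⁻¹ * t ^ j := by
          calc c = (t ^ i)⁻¹ * (t ^ j * ((t ^ j)⁻¹ * (t ^ i * c))) := by group
            _ = (t ^ i)⁻¹ * t ^ j := by rw [hd1, mul_one]
        rw [hc]
        exact Subgroup.mul_mem _ (Subgroup.inv_mem _ (Subgroup.pow_mem _ (Subgroup.mem_zpowers t) i))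
          (Subgroup.pow_mem _ (Subgroup.mem_zpowers t) j)
      · push Not at hC
        -- `A = ⟨t⟩`
        refine kf_case_small ρ hK htp htK ?_
        have hAle : Nat.card A' ≤ p := by
          have h1 : Nat.card A' ≤ Nat.card (Subgroup.zpowers t) := Subgroup.card_le_of_le hC
          have h2 : Nat.card (Subgroup.zpowers t) = orderOf t := Nat.card_zpowers t
          have h3 : orderOf t ≤ p := Nat.le_of_dvd hp.out.pos (orderOf_dvd_of_pow_eq_one htp)
          omega
        have hoff := h.off ⊥ bot_le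
        have e1 : Nat.card ((⊥ : Subgroup G)) = 1 := Subgroup.card_bot
        have e2 : Nat.card {v : V // ∀ b ∈ (⊥ : Subgroup G), ρ b v = v} = Nat.card V := by
          refine Nat.card_congr (Equiv.subtypeUnivEquiv ?_)
          intro u b hb
          rw [Subgroup.mem_bot.mp hb, rho_one_apply]
        have e3 : Nat.card {v : V // ∀ a ∈ A', ρ a v = v} ≤ Nat.card (cV ρ ({t} : Set G)) := by
          refine Nat.card_le_card_of_injective
            (fun u => (⟨u.1, fun y hy => by rw [Set.mem_singleton_iff.mp hy]; exact u.2 t ht⟩ :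
              cV ρ ({t} : Set G))) ?_
          intro a b hab
          have hab' : (a : V) = (b : V) := congrArg (fun z : cV ρ ({t} : Set G) => (z : V)) hab
          exact Subtype.ext hab'
        have e4 := card_cV_mul_card_cm_singleton ρ t
        rw [e1, e2, one_mul] at hoff
        have hpos : 0 < Nat.card (cV ρ ({t} : Set G)) := Nat.card_pos
        have h5 : Nat.card (cV ρ ({t} : Set G)) * Nat.card (cm ρ ({t} : Set G)) ≤
            Nat.card (cV ρ ({t} : Set G)) * p := by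
          calc Nat.card (cV ρ ({t} : Set G)) * Nat.card (cm ρ ({t} : Set G)) = Nat.card V := e4
            _ ≤ Nat.card A' * Nat.card {v : V // ∀ a ∈ A', ρ a v = v} := hoff
            _ ≤ p * Nat.card (cV ρ ({t} : Set G)) := Nat.mul_le_mul hAle e3
            _ = Nat.card (cV ρ ({t} : Set G)) * p := Nat.mul_comm _ _
        exact Nat.le_of_mul_le_mul_left h5 hpos
  · -- `A` is not quadratic: `A' < A` normalizes `K`
    have hnorm : ∀ a ∈ A', cjS a K = K :=
      le_normalizer_iff_cjS.mp (h.sub A' hA'A hAA hA'bot hoff' K hK)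
    obtain ⟨c, hc1⟩ := (Subgroup.ne_bot_iff_exists_ne_one.mp hA'bot)
    have hc1' : (c : G) ≠ 1 := fun hc => hc1 (Subtype.ext hc)
    exact hI c (hA'A c.2) hc1' (hnorm c c.2) (hcen' c c.2)

/-- the dual form of the Key Fact: `t` centralizes `[V, N_t(x)]`. -/
theorem MinCE.keyFact'_of (h : MinCE p ρ A K)
    (hcent : ∀ c ∈ A, (∀ x ∈ K, c * x = x * c) → c = 1)
    (hT : ∃ A' : Subgroup G, A' ≤ A ∧ IsPOff ρ A' ∧ (∀ a ∈ A', ∀ w ∈ cm ρ (A : Set G), ρ a w = w) ∧
      (∀ a ∈ A, (∀ w ∈ cm ρ (A : Set G), ρ a w = w) → a ∈ A') ∧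
      (cm ρ (A : Set G) ≠ ⊥ → cm ρ (A' : Set G) ≠ ⊥))
    {t : G} (ht : t ∈ A) (htK : cjS t K ≠ K) {x : G} (hx : x ∈ K) (v : V) :
    ρ t (ρ (nt p t x) v - v) = ρ (nt p t x) v - v :=
  fix_sub_of_commute ρ (nt_comm_t h.comp (h.el.2 t ht) htK hx).symm (h.keyFact_of hcent hT ht htK hx v)

end kf

end Cfsg.Agent.PGV
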