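import Mathlib
import Cfsg.Agent.PGV.Defs
import Cfsg.Agent.PGV.Basic
import Cfsg.Agent.PGV.ModP
import Cfsg.Agent.Lead.Replacement

/-!
# S3086 (the `P(G,V)`-theorem), piece T: the Timmesfeld replacement theorem, module form (lead)

`timmesfeld_mod`: if `A` is an elementary abelian best offender on the finite `ZMod p`-module `V`, then so is
`A* = C_A([V, A])`, and `[V, A] ≠ 0 → [V, A*] ≠ 0`.  Direct module proof (Kurzweil–Stellmacher 9.2.3).
-/

set_option autoImplicit false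

namespace Cfsg.Agent.PGV

section timm

variable {p : ℕ} [Fact p.Prime] {G V : Type*} [Group G] [AddCommGroup V] [Module (ZMod p) V]
  (ρ : Representation (ZMod p) G V)

/-- the measure `|X| |C_V(X)|`. -/
noncomputable def tmF (X : Subgroup G) : ℕ := Nat.card ↥X * Nat.card ↥(cV ρ (X : Set G))

theorem tmF_pos [Finite G] [Finite V] (X : Subgroup G) : 0 < tmF ρ X :=
  Nat.mul_pos Nat.card_pos Nat.card_pos

theorem tm_card_fix (X : Subgroup G) :
    Nat.card {v : V // ∀ b ∈ X, ρ b v = v} = Nat.card ↥(cV ρ (X : Set G)) :=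
  Nat.card_congr (Equiv.subtypeEquivRight (fun _ => Iff.rfl))

theorem isPOff_iff (A : Subgroup G) : IsPOff ρ A ↔ ∀ B : Subgroup G, B ≤ A → tmF ρ B ≤ tmF ρ A := by
  unfold IsPOff tmF
  constructor
  · intro h B hB
    have := h B hB
    rwa [tm_card_fix, tm_card_fix] at this
  · intro h B hB
    rw [tm_card_fix, tm_card_fix]
    exact h B hB

/-- the pointwise stabilizer of a submodule. -/
def tmFix (U : Submodule (ZMod p) V) : Subgroup G where
  carrier := {g | ∀ w ∈ U, ρ g w = w}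
  one_mem' := by
    intro w _
    rw [rho_one_apply]
  mul_mem' := by
    intro a b ha hb w hw
    rw [rho_mul_apply, hb w hw, ha w hw]
  inv_mem' := by
    intro a ha w hw
    have := ha w hw
    calc ρ a⁻¹ w = ρ a⁻¹ (ρ a w) := by rw [this]
      _ = w := rho_inv_apply ρ a w

theorem mem_tmFix {U : Submodule (ZMod p) V} {g : G} : g ∈ tmFix ρ U ↔ ∀ w ∈ U, ρ g w = w := Iff.rfl

/-- `[u, A]`. -/
def tmU (A : Subgroup G) (u : V) : Submodule (ZMod p) V :=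
  Submodule.span (ZMod p) {w | ∃ a ∈ A, w = ρ a u - u}

theorem sub_mem_tmU {A : Subgroup G} {a : G} (ha : a ∈ A) (u : V) : ρ a u - u ∈ tmU ρ A u :=
  Submodule.subset_span ⟨a, ha, rfl⟩

theorem tmU_le_cm (A : Subgroup G) (u : V) : tmU ρ A u ≤ cm ρ (A : Set G) := by
  unfold tmU
  rw [Submodule.span_le]
  rintro w ⟨a, ha, rfl⟩
  exact sub_mem_cm ha u

/-- `g` fixes `[u, A]` pointwise as soon as it fixes the generators. -/
theorem mem_tmFix_tmU {A : Subgroup G} {u : V} {g : G} (h : ∀ b ∈ A, ρ g (ρ b u - u) = ρ b u - u) :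
    g ∈ tmFix ρ (tmU ρ A u) := by
  intro w hw
  have hle : tmU ρ A u ≤ cV ρ {g} := by
    unfold tmU
    rw [Submodule.span_le]
    rintro w ⟨b, hb, rfl⟩
    intro x hx
    rw [Set.mem_singleton_iff] at hx
    subst hx
    exact h b hb
  exact hle hw g rfl

theorem cV_sup (X Y : Subgroup G) : cV ρ ((X ⊔ Y : Subgroup G) : Set G) = cV ρ (X : Set G) ⊓ cV ρ (Y : Set G) := by
  have h : (X ⊔ Y : Subgroup G) = Subgroup.closure ((X : Set G) ∪ (Y : Set G)) := by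
    rw [Subgroup.closure_union, Subgroup.closure_eq, Subgroup.closure_eq]
  rw [h, cV_closure]
  ext v
  simp only [mem_cV, Submodule.mem_inf, Set.mem_union]
  constructor
  · intro hv
    exact ⟨fun x hx => hv x (Or.inl hx), fun x hx => hv x (Or.inr hx)⟩
  · rintro ⟨h1, h2⟩ x (hx | hx)
    · exact h1 x hx
    · exact h2 x hx

theorem cV_sup_le_inf (X Y : Subgroup G) :
    cV ρ (X : Set G) ⊔ cV ρ (Y : Set G) ≤ cV ρ ((X ⊓ Y : Subgroup G) : Set G) :=
  sup_le (cV_anti ρ (fun _ hx => (Subgroup.mem_inf.1 hx).1)) (cV_anti ρ (fun _ hx => (Subgroup.mem_inf.1 hx).2))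

theorem tm_eq_of_le_of_card_ge [Finite V] {P Q : Submodule (ZMod p) V} (h : P ≤ Q)
    (hc : Nat.card ↥Q ≤ Nat.card ↥P) : P = Q := by
  apply SetLike.coe_injective
  apply Set.eq_of_subset_of_ncard_le h _ (Set.toFinite _)
  have e1 : Nat.card ↥Q = (Q : Set V).ncard := Nat.card_coe_set_eq (Q : Set V)
  have e2 : Nat.card ↥P = (P : Set V).ncard := Nat.card_coe_set_eq (P : Set V)
  rw [← e1, ← e2]
  exact hc

/-- Lattice property of best offenders. -/
theorem tm_best_inf [Finite G] [Finite V] (A X Y : Subgroup G) (hX : X ≤ A) (hY : Y ≤ A)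
    (hbest : ∀ D : Subgroup G, D ≤ A → tmF ρ D ≤ tmF ρ A)
    (hfX : tmF ρ X = tmF ρ A) (hfY : tmF ρ Y = tmF ρ A) :
    tmF ρ (X ⊓ Y) = tmF ρ A ∧
      cV ρ ((X ⊓ Y : Subgroup G) : Set G) = cV ρ (X : Set G) ⊔ cV ρ (Y : Set G) := by
  have h1 := Cfsg.Agent.Lead.Repl.card_mul_le X Y
  have h2 := card_sup_mul_card_inf (cV ρ (X : Set G)) (cV ρ (Y : Set G))
  rw [← cV_sup] at h2
  have h3 : Nat.card ↥(cV ρ (X : Set G) ⊔ cV ρ (Y : Set G)) ≤ Nat.card ↥(cV ρ ((X ⊓ Y : Subgroup G) : Set G)) :=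
    Nat.card_mono (Set.toFinite _) (cV_sup_le_inf ρ X Y)
  have h4 := hbest (X ⊓ Y) (inf_le_left.trans hX)
  have h5 := hbest (X ⊔ Y) (sup_le hX hY)
  unfold tmF at h4 h5 hfX hfY ⊢
  obtain ⟨b, hb⟩ : ∃ b, b = Nat.card ↥X := ⟨_, rfl⟩
  obtain ⟨c, hc⟩ : ∃ c, c = Nat.card ↥Y := ⟨_, rfl⟩
  obtain ⟨i, hi⟩ : ∃ i, i = Nat.card ↥(X ⊓ Y : Subgroup G) := ⟨_, rfl⟩
  obtain ⟨s, hs⟩ : ∃ s, s = Nat.card ↥(X ⊔ Y : Subgroup G) := ⟨_, rfl⟩
  obtain ⟨β, hβ⟩ : ∃ β, β = Nat.card ↥(cV ρ (X : Set G)) := ⟨_, rfl⟩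
  obtain ⟨γ, hγ⟩ : ∃ γ, γ = Nat.card ↥(cV ρ (Y : Set G)) := ⟨_, rfl⟩
  obtain ⟨σ, hσ⟩ : ∃ σ, σ = Nat.card ↥(cV ρ (X : Set G) ⊔ cV ρ (Y : Set G)) := ⟨_, rfl⟩
  obtain ⟨ι, hι⟩ : ∃ ι, ι = Nat.card ↥(cV ρ ((X ⊔ Y : Subgroup G) : Set G)) := ⟨_, rfl⟩
  obtain ⟨τ, hτ⟩ : ∃ τ, τ = Nat.card ↥(cV ρ ((X ⊓ Y : Subgroup G) : Set G)) := ⟨_, rfl⟩
  obtain ⟨M, hM⟩ : ∃ M, M = Nat.card ↥A * Nat.card ↥(cV ρ (A : Set G)) := ⟨_, rfl⟩
  rw [← hb, ← hc, ← hi, ← hs] at h1
  rw [← hβ, ← hγ, ← hσ, ← hι] at h2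
  rw [← hσ, ← hτ] at h3
  rw [← hi, ← hτ, ← hM] at h4
  rw [← hs, ← hι, ← hM] at h5
  rw [← hb, ← hβ, ← hM] at hfX
  rw [← hc, ← hγ, ← hM] at hfY
  rw [← hi, ← hτ, ← hM]
  have hipos : 0 < i := hi ▸ Nat.card_pos
  have hspos : 0 < s := hs ▸ Nat.card_pos
  have hιpos : 0 < ι := hι ▸ Nat.card_pos
  have hMpos : 0 < M := hM ▸ Nat.mul_pos Nat.card_pos Nat.card_pos
  have e1 : M * M = (b * c) * (β * γ) := by
    calc M * M = (b * β) * (c * γ) := by rw [hfX, hfY]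
      _ = (b * c) * (β * γ) := by ring
  have e2 : (b * c) * (β * γ) ≤ (s * i) * (σ * ι) := by rw [← h2]; exact Nat.mul_le_mul_right _ h1
  have e3 : (s * i) * (σ * ι) ≤ (s * i) * (τ * ι) :=
    Nat.mul_le_mul_left _ (Nat.mul_le_mul_right _ h3)
  have e4 : (s * i) * (τ * ι) = (i * τ) * (s * ι) := by ring
  have e5 : (i * τ) * (s * ι) ≤ M * M := Nat.mul_le_mul h4 h5
  have e6 : (s * i) * (σ * ι) = (s * i) * (τ * ι) := by
    apply le_antisymm e3
    rw [e4]; exact e5.trans (e1 ▸ e2)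
  have hστ : σ = τ := by
    have h7 : σ * ι = τ * ι := Nat.eq_of_mul_eq_mul_left (Nat.mul_pos hspos hipos) e6
    exact Nat.eq_of_mul_eq_mul_right hιpos h7
  have e7 : (i * τ) * (s * ι) = M * M := by
    apply le_antisymm e5
    rw [← e4, ← e6]; exact e1 ▸ e2
  have hiτ : i * τ = M := by
    apply le_antisymm h4
    by_contra hlt
    push Not at hlt
    have : (i * τ) * (s * ι) < M * M := by
      calc (i * τ) * (s * ι) < M * (s * ι) :=
            Nat.mul_lt_mul_of_pos_right hlt (Nat.mul_pos hspos hιpos)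
        _ ≤ M * M := Nat.mul_le_mul_left _ h5
    exact absurd e7 (Nat.ne_of_lt this)
  refine ⟨hiτ, ?_⟩
  symm
  apply tm_eq_of_le_of_card_ge (cV_sup_le_inf ρ X Y)
  rw [← hσ, ← hτ, hστ]

/-- Key injectivity fact for the cyclic step. -/
theorem tm_key_inj {A : Subgroup G} (hAc : ∀ x ∈ A, ∀ y ∈ A, x * y = y * x) (u : V) {a a' : G}
    (ha : a ∈ A) (ha' : a' ∈ A)
    (hd : (ρ a u - u) - (ρ a' u - u) ∈ cV ρ (A : Set G)) :
    a'⁻¹ * a ∈ tmFix ρ (tmU ρ A u) := by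
  apply mem_tmFix_tmU
  intro b hb
  have hd' : ρ a u - ρ a' u ∈ cV ρ (A : Set G) := by
    have : (ρ a u - u) - (ρ a' u - u) = ρ a u - ρ a' u := by abel
    rwa [this] at hd
  have hbd : ρ b (ρ a u - ρ a' u) = ρ a u - ρ a' u := hd' b hb
  -- `ρ a (ρ b u - u) = ρ a' (ρ b u - u)`
  have hkey : ρ a (ρ b u - u) = ρ a' (ρ b u - u) := by
    have e1 : ρ a (ρ b u) = ρ b (ρ a u) := by
      rw [← rho_mul_apply, ← rho_mul_apply, hAc a ha b hb]
    have e2 : ρ a' (ρ b u) = ρ b (ρ a' u) := by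
      rw [← rho_mul_apply, ← rho_mul_apply, hAc a' ha' b hb]
    rw [map_sub, map_sub, e1, e2]
    rw [map_sub] at hbd
    have : ρ b (ρ a u) - ρ a u - (ρ b (ρ a' u) - ρ a' u) = 0 := by
      have h := sub_eq_zero.mpr hbd
      rw [← h]
      abel
    exact sub_eq_zero.mp this
  rw [rho_mul_apply, hkey, rho_inv_apply]

/-- The cyclic step: `|A| |C_V(A)| ≤ |C_A([u,A])| |[u,A] + C_V(A)|`. -/
theorem tm_cyclic_step [Finite G] [Finite V] {A : Subgroup G} (hAc : ∀ x ∈ A, ∀ y ∈ A, x * y = y * x)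
    (u : V) :
    tmF ρ A ≤ Nat.card ↥(A ⊓ tmFix ρ (tmU ρ A u) : Subgroup G) *
      Nat.card ↥(tmU ρ A u ⊔ cV ρ (A : Set G)) := by
  classical
  set Au : Subgroup G := A ⊓ tmFix ρ (tmU ρ A u) with hAu
  set W : Submodule (ZMod p) V := tmU ρ A u ⊔ cV ρ (A : Set G) with hW
  set C : Submodule (ZMod p) V := cV ρ (A : Set G) with hC
  let φ : ↥A → V ⧸ C := fun a => Submodule.Quotient.mk (ρ (a : G) u - u)
  have hφeq : ∀ a a' : ↥A, φ a = φ a' → (ρ (a : G) u - u) - (ρ (a' : G) u - u) ∈ C := by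
    intro a a' h
    exact (Submodule.Quotient.eq C).mp h
  have : Nonempty ↥A := ⟨1⟩
  have hr : ∀ a : ↥A, φ (Function.invFun φ (φ a)) = φ a := fun a =>
    Function.invFun_eq ⟨a, rfl⟩
  have hmemAu : ∀ a : ↥A, ((Function.invFun φ (φ a) : ↥A) : G)⁻¹ * (a : G) ∈ Au := by
    intro a
    rw [hAu]
    refine Subgroup.mem_inf.mpr ⟨A.mul_mem (A.inv_mem (Function.invFun φ (φ a)).2) a.2, ?_⟩
    exact tm_key_inj ρ hAc u a.2 (Function.invFun φ (φ a)).2 (hφeq _ _ (hr a).symm)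
  have hmemW : ∀ (a : ↥A) (c : ↥C), (ρ (a : G) u - u) + (c : V) ∈ W := by
    intro a c
    rw [hW]
    exact Submodule.add_mem_sup (sub_mem_tmU ρ a.2 u) c.2
  have hinj : Function.Injective (fun ac : ↥A × ↥C =>
      ((⟨((Function.invFun φ (φ ac.1) : ↥A) : G)⁻¹ * (ac.1 : G), hmemAu ac.1⟩ : ↥Au),
        (⟨(ρ (ac.1 : G) u - u) + (ac.2 : V), hmemW ac.1 ac.2⟩ : ↥W))) := by
    rintro ⟨a, c⟩ ⟨a', c'⟩ h
    simp only [Prod.mk.injEq, Subtype.mk.injEq] at h
    obtain ⟨h1, h2⟩ := h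
    have hφ : φ a = φ a' := by
      apply (Submodule.Quotient.eq C).mpr
      have : (ρ (a : G) u - u) - (ρ (a' : G) u - u) = (c' : V) - (c : V) := by
        have := sub_eq_zero.mpr h2
        rw [← sub_eq_zero]
        rw [← this]
        abel
      rw [this]
      exact C.sub_mem c'.2 c.2
    rw [hφ] at h1
    have haa : a = a' := Subtype.ext (mul_left_cancel h1)
    subst haa
    have hcc : (c : V) = (c' : V) := add_left_cancel h2
    rw [Subtype.ext hcc]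
  have hcard := Nat.card_le_card_of_injective _ hinj
  rw [Nat.card_prod, Nat.card_prod] at hcard
  unfold tmF
  exact hcard

theorem tm_sup_le (A : Subgroup G) (u : V) :
    tmU ρ A u ⊔ cV ρ (A : Set G) ≤ cV ρ ((A ⊓ tmFix ρ (tmU ρ A u) : Subgroup G) : Set G) := by
  apply sup_le
  · intro w hw b hb
    exact (Subgroup.mem_inf.1 hb).2 w hw
  · exact cV_anti ρ (fun _ hx => (Subgroup.mem_inf.1 hx).1)

/-- With `A` best: the cyclic replacement is again best, with the expected fixed points. -/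
theorem tm_cyclic_best [Finite G] [Finite V] {A : Subgroup G} (hAc : ∀ x ∈ A, ∀ y ∈ A, x * y = y * x)
    (hbest : ∀ D : Subgroup G, D ≤ A → tmF ρ D ≤ tmF ρ A) (u : V) :
    tmF ρ (A ⊓ tmFix ρ (tmU ρ A u)) = tmF ρ A ∧
      cV ρ ((A ⊓ tmFix ρ (tmU ρ A u) : Subgroup G) : Set G) = tmU ρ A u ⊔ cV ρ (A : Set G) := by
  have h1 := tm_cyclic_step ρ hAc u
  have h2 := tm_sup_le ρ A u
  have h3 := hbest _ (inf_le_left : A ⊓ tmFix ρ (tmU ρ A u) ≤ A)
  have h4 : Nat.card ↥(tmU ρ A u ⊔ cV ρ (A : Set G)) ≤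
      Nat.card ↥(cV ρ ((A ⊓ tmFix ρ (tmU ρ A u) : Subgroup G) : Set G)) :=
    Nat.card_mono (Set.toFinite _) h2
  have h5 : Nat.card ↥(A ⊓ tmFix ρ (tmU ρ A u) : Subgroup G) * Nat.card ↥(tmU ρ A u ⊔ cV ρ (A : Set G)) ≤
      tmF ρ (A ⊓ tmFix ρ (tmU ρ A u)) := by
    unfold tmF; exact Nat.mul_le_mul_left _ h4
  have h6 : tmF ρ (A ⊓ tmFix ρ (tmU ρ A u)) = tmF ρ A := le_antisymm h3 (h1.trans h5)
  refine ⟨h6, ?_⟩
  symm
  apply tm_eq_of_le_of_card_ge h2
  have h7 : Nat.card ↥(A ⊓ tmFix ρ (tmU ρ A u) : Subgroup G) *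
      Nat.card ↥(cV ρ ((A ⊓ tmFix ρ (tmU ρ A u) : Subgroup G) : Set G)) ≤
      Nat.card ↥(A ⊓ tmFix ρ (tmU ρ A u) : Subgroup G) * Nat.card ↥(tmU ρ A u ⊔ cV ρ (A : Set G)) := by
    have := h1
    rw [← h6] at this
    exact this
  exact Nat.le_of_mul_le_mul_left h7 Nat.card_pos

theorem tm_finset_best [Finite G] [Finite V] {A : Subgroup G} (hAc : ∀ x ∈ A, ∀ y ∈ A, x * y = y * x)
    (hbest : ∀ D : Subgroup G, D ≤ A → tmF ρ D ≤ tmF ρ A) (s : Finset V) :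
    tmF ρ (A ⊓ ⨅ u ∈ s, tmFix ρ (tmU ρ A u)) = tmF ρ A ∧
      cV ρ ((A ⊓ ⨅ u ∈ s, tmFix ρ (tmU ρ A u) : Subgroup G) : Set G) =
        cV ρ (A : Set G) ⊔ ⨆ u ∈ s, tmU ρ A u := by
  classical
  induction s using Finset.induction_on with
  | empty => simp
  | insert a s ha ih =>
    have hc := tm_cyclic_best ρ hAc hbest a
    rw [Finset.iInf_insert, Finset.iSup_insert, inf_inf_distrib_left]
    have hb := tm_best_inf ρ A _ _
      (inf_le_left : A ⊓ tmFix ρ (tmU ρ A a) ≤ A)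
      (inf_le_left : A ⊓ ⨅ u ∈ s, tmFix ρ (tmU ρ A u) ≤ A)
      hbest hc.1 ih.1
    refine ⟨hb.1, ?_⟩
    rw [hb.2, hc.2, ih.2]
    apply le_antisymm
    · apply sup_le
      · apply sup_le
        · exact le_sup_of_le_right le_sup_left
        · exact le_sup_left
      · apply sup_le
        · exact le_sup_left
        · exact le_sup_of_le_right le_sup_right
    · apply sup_le
      · exact le_sup_of_le_left le_sup_right
      · apply sup_le
        · exact le_sup_of_le_left le_sup_left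
        · exact le_sup_of_le_right le_sup_right

/-- `[V, A]` is invariant under the subgroup `A`. -/
theorem tm_cm_invariant (A : Subgroup G) {a : G} (ha : a ∈ A) {w : V} (hw : w ∈ cm ρ (A : Set G)) :
    ρ a w ∈ cm ρ (A : Set G) := by
  have hle : cm ρ (A : Set G) ≤ (cm ρ (A : Set G)).comap (ρ a) := by
    rw [cm_le_iff]
    intro x hx v
    rw [Submodule.mem_comap, map_sub]
    have e : ρ a (ρ x v) = ρ (a * x * a⁻¹) (ρ a v) := by
      rw [← rho_mul_apply, ← rho_mul_apply]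
      congr 2
      group
    rw [e]
    exact sub_mem_cm (A.mul_mem (A.mul_mem ha hx) (A.inv_mem ha)) _
  exact hle hw

end timm

/-- **Timmesfeld replacement theorem**, module form. -/
theorem timmesfeld_mod {p : ℕ} [Fact p.Prime] {G V : Type*} [Group G] [Finite G] [AddCommGroup V] [Finite V]
    [Module (ZMod p) V] (ρ : Representation (ZMod p) G V) (A : Subgroup G)
    (hAel : Cfsg.IsElementaryAbelian p A) (hoff : IsPOff ρ A) :
    ∃ A' : Subgroup G, A' ≤ A ∧ IsPOff ρ A' ∧ (∀ a ∈ A', ∀ w ∈ cm ρ (A : Set G), ρ a w = w) ∧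
      (∀ a ∈ A, (∀ w ∈ cm ρ (A : Set G), ρ a w = w) → a ∈ A') ∧
      (cm ρ (A : Set G) ≠ ⊥ → cm ρ (A' : Set G) ≠ ⊥) := by
  classical
  have hAc : ∀ x ∈ A, ∀ y ∈ A, x * y = y * x := Cfsg.Agent.Lead.Repl.comm_of_isMulCommutative hAel.1
  have hbest : ∀ D : Subgroup G, D ≤ A → tmF ρ D ≤ tmF ρ A := (isPOff_iff ρ A).mp hoff
  have : Fintype V := Fintype.ofFinite V
  obtain ⟨hF, hcV⟩ := tm_finset_best ρ hAc hbest (Finset.univ : Finset V)
  set A' : Subgroup G := A ⊓ ⨅ u ∈ (Finset.univ : Finset V), tmFix ρ (tmU ρ A u) with hA'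
  have hA'A : A' ≤ A := inf_le_left
  -- membership in `A'`
  have hmem1 : ∀ a ∈ A', ∀ w ∈ cm ρ (A : Set G), ρ a w = w := by
    intro a ha
    have hle : cm ρ (A : Set G) ≤ cV ρ {a} := by
      rw [cm_le_iff]
      intro x hx v y hy
      rw [Set.mem_singleton_iff] at hy
      subst hy
      have h2 := (Subgroup.mem_inf.1 ha).2
      rw [Subgroup.mem_iInf] at h2
      have h3 := h2 v
      rw [Subgroup.mem_iInf] at h3
      exact h3 (Finset.mem_univ v) _ (sub_mem_tmU ρ hx v)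
    intro w hw
    exact hle hw a rfl
  have hmem2 : ∀ a ∈ A, (∀ w ∈ cm ρ (A : Set G), ρ a w = w) → a ∈ A' := by
    intro a ha h
    refine Subgroup.mem_inf.mpr ⟨ha, ?_⟩
    rw [Subgroup.mem_iInf]
    intro v
    rw [Subgroup.mem_iInf]
    intro _ w hw
    exact h w (tmU_le_cm ρ A v hw)
  -- fixed points of `A'`
  have hcV' : cV ρ (A' : Set G) = cV ρ (A : Set G) ⊔ cm ρ (A : Set G) := by
    rw [hcV]
    congr 1
    apply le_antisymm
    · apply iSup₂_le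
      intro u _
      exact tmU_le_cm ρ A u
    · rw [cm_le_iff]
      intro x hx v
      have h1 : tmU ρ A v ≤ ⨆ u ∈ (Finset.univ : Finset V), tmU ρ A u :=
        le_iSup₂_of_le v (Finset.mem_univ v) le_rfl
      exact h1 (sub_mem_tmU ρ hx v)
  refine ⟨A', hA'A, ?_, hmem1, hmem2, ?_⟩
  · rw [isPOff_iff]
    intro B hB
    rw [hF]
    exact hbest B (hB.trans hA'A)
  · intro hne hbot
    apply hne
    -- `A'` centralizes `V`
    have htop : cV ρ (A' : Set G) = ⊤ := by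
      rw [eq_top_iff]
      intro v _ a ha
      have : ρ a v - v ∈ cm ρ (A' : Set G) := sub_mem_cm ha v
      rw [hbot, Submodule.mem_bot] at this
      exact sub_eq_zero.mp this
    rw [hcV'] at htop
    set W := cm ρ (A : Set G) with hWdef
    -- `W ≤ [W, A]`
    have hWle : W ≤ cmW ρ W (A : Set G) := by
      rw [hWdef, cm_le_iff]
      intro x hx v
      have hv : v ∈ cV ρ (A : Set G) ⊔ W := htop ▸ Submodule.mem_top
      obtain ⟨c, hc, w, hw, rfl⟩ := Submodule.mem_sup.mp hv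
      have e : ρ x (c + w) - (c + w) = ρ x w - w := by
        rw [map_add, hc x hx]
        abel
      rw [e]
      exact sub_mem_cmW hx hw
    have hWeq : cmW ρ W (A : Set G) = W := le_antisymm (cmW_le_cm ρ W _) hWle
    have hp : IsPGroup p ↥A := by
      intro a
      refine ⟨1, ?_⟩
      rw [pow_one]
      apply Subtype.ext
      rw [Subgroup.coe_pow, Subgroup.coe_one]
      exact hAel.2 a a.2
    by_contra hW0
    exact cmW_ne_self_of_isPGroup ρ A hp W (fun a ha w hw => tm_cm_invariant ρ A ha hw) hW0 hWeq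

end Cfsg.Agent.PGV
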