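import Mathlib
import Cfsg.Agent.PGV.KeyFactA
import Cfsg.Agent.PGV.Timm
import Cfsg.Agent.PGV.Step3

/-!
# S3086 (the `P(G,V)`-theorem), piece KF (helper4)

The Key Fact, stubs verbatim: `MinCE.keyFact`, `MinCE.keyFact'` (core in `PGV/KeyFactA.lean`; inputs: piece T
`timmesfeld_mod`, piece S3 `MinCE.cent_trivial`).
-/

set_option autoImplicit false

namespace Cfsg.Agent.PGV

section kf

variable {p : ℕ} [Fact p.Prime] {G V : Type*} [Group G] [Finite G] [AddCommGroup V] [Finite V] [Module (ZMod p) V]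
  {ρ : Representation (ZMod p) G V} {A K : Subgroup G}

/-- **Key Fact**: for `t ∈ A` moving `K` and `x ∈ K`, the norm `N_t(x) = (x t)^p` centralizes `[V,t]`. -/
theorem MinCE.keyFact (h : MinCE p ρ A K) {t : G} (ht : t ∈ A) (htK : cjS t K ≠ K) {x : G} (hx : x ∈ K) (v : V) :
    ρ (nt p t x) (ρ t v - v) = ρ t v - v :=
  h.keyFact_of (fun _ hc hcK => h.cent_trivial hc hcK) (timmesfeld_mod ρ A h.el h.off) ht htK hx v

/-- the dual form (equivalent, since `nt p t x` commutes with `t`). -/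
theorem MinCE.keyFact' (h : MinCE p ρ A K) {t : G} (ht : t ∈ A) (htK : cjS t K ≠ K) {x : G} (hx : x ∈ K) (v : V) :
    ρ t (ρ (nt p t x) v - v) = ρ (nt p t x) v - v :=
  h.keyFact'_of (fun _ hc hcK => h.cent_trivial hc hcK) (timmesfeld_mod ρ A h.el h.off) ht htK hx v

end kf

end Cfsg.Agent.PGV
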