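import Mathlib
import Cfsg.Agent.PGV.TwoA
import Cfsg.Agent.PGV.TwoC
import Cfsg.Agent.PGV.TwoD2

/-!
# S3086 (the `P(G,V)`-theorem), `p = 2`: no minimal counterexample configuration (helper9)

Given the Key Fact (piece KF) in the form `KFHyp ρ A` of `PGV/TwoA.lean`: some `t ∈ A` moving `K` is a transvection
(7a, 7b, 7c), which is impossible (7d). Discharge `KFHyp` with
`fun K h t ht htK x hx v => h.keyFact ht htK hx v`.
-/

set_option autoImplicit false

namespace Cfsg.Agent.PGV

section twoE

variable {G V : Type*} [Group G] [Finite G] [AddCommGroup V] [Finite V] [Module (ZMod 2) V]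
  {ρ : Representation (ZMod 2) G V} {A K : Subgroup G}

/-- (7c') some `t ∈ A` moving `K` is a transvection, given the Key Fact. -/
theorem MinCE.exists_transvection_of_kf (h : MinCE 2 ρ A K) (H : KFHyp ρ A) :
    ∃ t ∈ A, cjS t K ≠ K ∧ Nat.card (cm ρ ({t} : Set G)) = 2 :=
  h.exists_transvection_of (fun ht ht' hne hK hK' => h.cV_sup_cV_of H ht ht' hne hK hK')

/-- **no minimal counterexample configuration for `p = 2`**, given the Key Fact. -/
theorem MinCE.false_of_two_of_kf (h : MinCE 2 ρ A K) (H : KFHyp ρ A) : False := by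
  obtain ⟨t, ht, htK, hcard⟩ := h.exists_transvection_of_kf H
  have ht2 : t * t = 1 := by
    have := h.pow_eq_one ht
    rwa [pow_two] at this
  exact no_transvection_moves h.inj h.comp ht2 htK hcard

end twoE

end Cfsg.Agent.PGV
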